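import Cfsg.Agent.Lib.H34.TCO8A.Data
import Cfsg.Agent.Lib.H35.TC
set_option autoImplicit false
set_option maxRecDepth 100000
set_option linter.all false
namespace H34.TCO8A
open H35.TC
/-- letters -/
inductive Lt | t0 | t1 | t2 | t3 | t4 | t5 | t6 | t7 | w | v | vi | u0 | u0i | u1 | u1i | s
  deriving DecidableEq
/-- inverse letter -/
def inv : Lt → Lt
  | .t0 => .t0
  | .t1 => .t1
  | .t2 => .t2
  | .t3 => .t3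
  | .t4 => .t4
  | .t5 => .t5
  | .t6 => .t6
  | .t7 => .t7
  | .w => .w
  | .v => .vi
  | .vi => .v
  | .u0 => .u0i
  | .u0i => .u0
  | .u1 => .u1i
  | .u1i => .u1
  | .s => .s
/-- table functions -/
noncomputable def T : Lt → ℕ → ℕ
  | .t0 => T_t0
  | .t1 => T_t1
  | .t2 => T_t2
  | .t3 => T_t3
  | .t4 => T_t4
  | .t5 => T_t5
  | .t6 => T_t6
  | .t7 => T_t7
  | .w => T_w
  | .v => T_v
  | .vi => T_vi
  | .u0 => T_u0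
  | .u0i => T_u0i
  | .u1 => T_u1
  | .u1i => T_u1i
  | .s => T_s
/-- decoding of letter codes -/
def lt : ℕ → Lt
  | 0 => .t0
  | 1 => .t1
  | 2 => .t2
  | 3 => .t3
  | 4 => .t4
  | 5 => .t5
  | 6 => .t6
  | 7 => .t7
  | 8 => .w
  | 9 => .v
  | 10 => .vi
  | 11 => .u0
  | 12 => .u0i
  | 13 => .u1
  | 14 => .u1i
  | _ => .s
/-- Coxeter matrix (0: no relation) -/
def mm : Lt → Lt → ℕ
  | .t0, .t0 => 1
  | .t0, .t1 => 3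
  | .t0, .w => 2
  | .t0, .s => 2
  | .t1, .t0 => 3
  | .t1, .t1 => 1
  | .t1, .t2 => 3
  | .t1, .t4 => 3
  | .t1, .w => 2
  | .t1, .s => 2
  | .t2, .t1 => 3
  | .t2, .t2 => 1
  | .t2, .t3 => 3
  | .t2, .w => 2
  | .t2, .s => 2
  | .t3, .t2 => 3
  | .t3, .t3 => 1
  | .t3, .w => 2
  | .t3, .s => 2
  | .t4, .t1 => 3
  | .t4, .t4 => 1
  | .t4, .t5 => 3
  | .t4, .w => 2
  | .t4, .s => 2
  | .t5, .t4 => 3
  | .t5, .t5 => 1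
  | .t5, .t6 => 3
  | .t5, .t7 => 3
  | .t5, .w => 2
  | .t5, .s => 2
  | .t6, .t5 => 3
  | .t6, .t6 => 1
  | .t6, .w => 2
  | .t6, .s => 2
  | .t7, .t5 => 3
  | .t7, .t7 => 1
  | .t7, .w => 2
  | .t7, .s => 2
  | .w, .t0 => 2
  | .w, .t1 => 2
  | .w, .t2 => 2
  | .w, .t3 => 2
  | .w, .t4 => 2
  | .w, .t5 => 2
  | .w, .t6 => 2
  | .w, .t7 => 2
  | .w, .w => 1
  | .w, .s => 2
  | .s, .t0 => 2
  | .s, .t1 => 2
  | .s, .t2 => 2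
  | .s, .t3 => 2
  | .s, .t4 => 2
  | .s, .t5 => 2
  | .s, .t6 => 2
  | .s, .t7 => 2
  | .s, .w => 2
  | .s, .s => 1
  | _, _ => 0
/-- extra relators `w ^ n` -/
def extra : List (List Lt × ℕ) := [
  ([.v, .u1, .vi, .u1i], 1),
  ([.u0, .t7, .u0i, .t7], 1),
  ([.u0, .t6, .u0i, .t6], 1),
  ([.u0, .t5, .u0i, .t5], 1),
  ([.u0, .t4, .u0i, .t4], 1),
  ([.u0, .t3, .u0i, .t3], 1),
  ([.u0, .t2, .u0i, .t2], 1),
  ([.u0, .t1, .u0i, .t1], 1),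
  ([.u0, .t0, .u0i, .t0], 1),
  ([.v, .s, .vi, .s], 1),
  ([.u0, .u1, .u0i, .u1i], 1),
  ([.v, .u0, .vi, .u0i], 1),
  ([.v, .t7, .vi, .t7], 1),
  ([.v, .t6, .vi, .t6], 1),
  ([.v, .t5, .vi, .t5], 1),
  ([.v, .t4, .vi, .t4], 1),
  ([.v, .t3, .vi, .t3], 1),
  ([.v, .t2, .vi, .t2], 1),
  ([.v, .t1, .vi, .t1], 1),
  ([.u1, .t7, .u1i, .t7], 1),
  ([.u1, .s, .u1i, .s], 1),
  ([.v, .t0, .vi, .t0], 1),
  ([.u1, .t6, .u1i, .t6], 1),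
  ([.u1, .t5, .u1i, .t5], 1),
  ([.u1, .t4, .u1i, .t4], 1),
  ([.u1, .t3, .u1i, .t3], 1),
  ([.u1, .t2, .u1i, .t2], 1),
  ([.u1, .t1, .u1i, .t1], 1),
  ([.u1, .t0, .u1i, .t0], 1),
  ([.u0, .s, .u0i, .s], 1),
  ([.w, .v, .w, .vi], 1),
  ([.w, .u0, .w, .u0i], 1),
  ([.w, .u1, .w, .u1i], 1),
  ([.t0, .t2, .t0, .t2, .w], 1),
  ([.t0, .t3, .t0, .t3, .w], 1),
  ([.t4, .t0, .t4, .t0, .w], 1),
  ([.t5, .t0, .t5, .t0, .w], 1),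
  ([.t6, .t0, .t6, .t0, .w], 1),
  ([.t1, .t3, .t1, .t3, .w], 1),
  ([.t5, .t1, .t5, .t1, .w], 1),
  ([.t6, .t1, .t6, .t1, .w], 1),
  ([.t4, .t2, .t4, .t2, .w], 1),
  ([.t5, .t2, .t5, .t2, .w], 1),
  ([.t6, .t2, .t6, .t2, .w], 1),
  ([.t4, .t3, .t4, .t3, .w], 1),
  ([.t5, .t3, .t5, .t3, .w], 1),
  ([.t6, .t3, .t6, .t3, .w], 1),
  ([.t6, .t4, .t6, .t4, .w], 1),
  ([.t1, .t6, .t7, .t1, .t6, .t7, .t6, .t1, .t7, .u0i], 1),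
  ([.t0, .t1, .t0, .t4, .t7, .t0, .t1, .t2, .t0, .t7, .u1i], 1),
  ([.t1, .t2, .t7, .t2, .t1, .t3, .t7, .t2, .t7, .t3, .s], 1),
  ([.t0, .t1, .t2, .t3, .t4, .t5, .t6, .t0, .t1, .t2, .t3, .t4, .t5, .t6, .t0, .t1, .t2, .t3, .t4, .t5, .t6, .t0, .t1, .t2, .t3, .t4, .t5, .t6, .t0, .t1, .t2, .t3, .t4, .t5, .t6, .t0, .t1, .t2, .t3, .t4, .t5, .t6, .t0, .t1, .t2, .t3, .t4, .t5, .t6, .t0, .t1, .t2, .t3, .t4, .t5, .t6, .t0, .t1, .t2, .t3, .t4, .t5, .t6, .vi], 1),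
  ([.v, .vi], 1),
  ([.vi, .v], 1),
  ([.u0, .u0i], 1),
  ([.u0i, .u0], 1),
  ([.u1, .u1i], 1),
  ([.u1i, .u1], 1)]
/-- relators -/
def rels : List (List Lt) := mkRels [(.s, .t7), (.s, .t6), (.s, .t5), (.s, .t4), (.s, .t3), (.s, .t2), (.s, .t1), (.s, .t0), (.w, .s), (.w, .t0), (.w, .t1), (.w, .t2), (.w, .t3), (.w, .t4), (.w, .t5), (.w, .t6), (.w, .t7), (.t4, .t5), (.t2, .t3), (.t5, .t6), (.t1, .t4), (.t1, .t2), (.t5, .t7), (.t0, .t1), (.t0, .t0), (.t1, .t1), (.t2, .t2), (.t3, .t3), (.t4, .t4), (.t5, .t5), (.t6, .t6), (.t7, .t7), (.w, .w), (.s, .s)] mm extra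
/-- subgroup words -/
def subs : List (List Lt) := [
  [.t0],
  [.t1],
  [.t2],
  [.t3],
  [.t4],
  [.t5],
  [.t6]]
noncomputable def dp_t0_0 (j u : ℕ) : Bool :=
  Bool.rec (motive := fun _ => Bool) (lF3 T_u0i T_t0 T_u0 M (Nat.sub (T_t0 u) (Nat.mod (T_t0 u) M)) (Nat.mod (T_t0 u) M) u) (lDef P (nat_lit 0) (Nat.mod (T_t0 u) M) u) (Nat.ble (nat_lit 2) j)
noncomputable def dp_t0_1 (j u : ℕ) : Bool :=
  Bool.rec (motive := fun _ => Bool) (lDef P (nat_lit 0) u (Nat.mod (T_t0 u) M)) (lF3 T_u0 T_t0 T_u0i M (Nat.sub (T_t0 u) (Nat.mod (T_t0 u) M)) (Nat.mod (T_t0 u) M) u) (Nat.ble (nat_lit 4) j)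
noncomputable def dp_t0_2 (j u : ℕ) : Bool :=
  Bool.rec (motive := fun _ => Bool) (lF [T_t3, T_w, T_t0, T_t3] M (Nat.sub (T_t0 u) (Nat.mod (T_t0 u) M)) (Nat.mod (T_t0 u) M) u) (lF [T_w, T_t5, T_t0, T_t5] M (Nat.sub (T_t0 u) (Nat.mod (T_t0 u) M)) (Nat.mod (T_t0 u) M) u) (Nat.ble (nat_lit 7) j)
noncomputable def dp_t0_3 (j u : ℕ) : Bool :=
  Bool.rec (motive := fun _ => Bool) (lF [T_w, T_t6, T_t0, T_t6] M (Nat.sub (T_t0 u) (Nat.mod (T_t0 u) M)) (Nat.mod (T_t0 u) M) u) (lF [T_t5, T_t0, T_w, T_t5] M (Nat.sub (T_t0 u) (Nat.mod (T_t0 u) M)) (Nat.mod (T_t0 u) M) u) (Nat.ble (nat_lit 9) j)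
noncomputable def dp_t0_4 (j u : ℕ) : Bool :=
  Bool.rec (motive := fun _ => Bool) (lF [T_t6, T_t0, T_w, T_t6] M (Nat.sub (T_t0 u) (Nat.mod (T_t0 u) M)) (Nat.mod (T_t0 u) M) u) (lF [T_t2, T_w, T_t0, T_t2] M (Nat.sub (T_t0 u) (Nat.mod (T_t0 u) M)) (Nat.mod (T_t0 u) M) u) (Nat.ble (nat_lit 11) j)
noncomputable def dp_t0_5 (j u : ℕ) : Bool :=
  Bool.rec (motive := fun _ => Bool) (lF [T_w, T_t4, T_t0, T_t4] M (Nat.sub (T_t0 u) (Nat.mod (T_t0 u) M)) (Nat.mod (T_t0 u) M) u) (lF [T_t4, T_t0, T_w, T_t4] M (Nat.sub (T_t0 u) (Nat.mod (T_t0 u) M)) (Nat.mod (T_t0 u) M) u) (Nat.ble (nat_lit 13) j)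
noncomputable def dp_t0_6 (j u : ℕ) : Bool :=
  Bool.rec (motive := fun _ => Bool) (lF3 T_s T_t0 T_s M (Nat.sub (T_t0 u) (Nat.mod (T_t0 u) M)) (Nat.mod (T_t0 u) M) u) (lF [T_t4, T_t7, T_t0, T_t1, T_t2, T_t0, T_t7, T_u1i, T_t0, T_t1] M (Nat.sub (T_t0 u) (Nat.mod (T_t0 u) M)) (Nat.mod (T_t0 u) M) u) (Nat.ble (nat_lit 16) j)
noncomputable def dp_t0_7 (j u : ℕ) : Bool :=
  Bool.rec (motive := fun _ => Bool) (lF3 T_u1i T_t0 T_u1 M (Nat.sub (T_t0 u) (Nat.mod (T_t0 u) M)) (Nat.mod (T_t0 u) M) u) (dp_t0_6 j u) (Nat.ble (nat_lit 15) j)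
noncomputable def dp_t0_8 (j u : ℕ) : Bool :=
  Bool.rec (motive := fun _ => Bool) (dp_t0_5 j u) (dp_t0_7 j u) (Nat.ble (nat_lit 14) j)
noncomputable def dp_t0_9 (j u : ℕ) : Bool :=
  Bool.rec (motive := fun _ => Bool) (lF [T_t1, T_t0, T_t4, T_t7, T_t0, T_t1, T_t2, T_t0, T_t7, T_u1i] M (Nat.sub (T_t0 u) (Nat.mod (T_t0 u) M)) (Nat.mod (T_t0 u) M) u) (lF3 T_u1 T_t0 T_u1i M (Nat.sub (T_t0 u) (Nat.mod (T_t0 u) M)) (Nat.mod (T_t0 u) M) u) (Nat.ble (nat_lit 19) j)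
noncomputable def dp_t0_10 (j u : ℕ) : Bool :=
  Bool.rec (motive := fun _ => Bool) (lF [T_t1, T_t0, T_t1, T_t0, T_t1] M (Nat.sub (T_t0 u) (Nat.mod (T_t0 u) M)) (Nat.mod (T_t0 u) M) u) (dp_t0_9 j u) (Nat.ble (nat_lit 18) j)
noncomputable def dp_t0_11 (j u : ℕ) : Bool :=
  Bool.rec (motive := fun _ => Bool) (lH [] [] M (Nat.sub (T_t0 u) (Nat.mod (T_t0 u) M)) (Nat.mod (T_t0 u) M) u) (lS MG [T_t1, T_t0, T_t1, T_t0, T_t1] M (Nat.sub (T_t0 u) (Nat.mod (T_t0 u) M)) (nat_lit 40) (Nat.mod (T_t0 u) M) u) (Nat.ble (nat_lit 22) j)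
noncomputable def dp_t0_12 (j u : ℕ) : Bool :=
  Bool.rec (motive := fun _ => Bool) (lF [T_t7, T_u1i, T_t0, T_t1, T_t0, T_t4, T_t7, T_t0, T_t1, T_t2] M (Nat.sub (T_t0 u) (Nat.mod (T_t0 u) M)) (Nat.mod (T_t0 u) M) u) (dp_t0_11 j u) (Nat.ble (nat_lit 21) j)
noncomputable def dp_t0_13 (j u : ℕ) : Bool :=
  Bool.rec (motive := fun _ => Bool) (lS MG [T_u0i, T_t0, T_u0] M (Nat.sub (T_t0 u) (Nat.mod (T_t0 u) M)) (nat_lit 40) (Nat.mod (T_t0 u) M) u) (lF [T_t2, T_t0, T_t2, T_w] M (Nat.sub (T_t0 u) (Nat.mod (T_t0 u) M)) (Nat.mod (T_t0 u) M) u) (Nat.ble (nat_lit 24) j)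
noncomputable def dp_t0_14 (j u : ℕ) : Bool :=
  Bool.rec (motive := fun _ => Bool) (lS MG [T_t3, T_t0, T_t3, T_w] M (Nat.sub (T_t0 u) (Nat.mod (T_t0 u) M)) (nat_lit 40) (Nat.mod (T_t0 u) M) u) (lF [T_t1, T_t0, T_u1, T_t7, T_t0, T_t2, T_t1, T_t0, T_t7, T_t4] M (Nat.sub (T_t0 u) (Nat.mod (T_t0 u) M)) (Nat.mod (T_t0 u) M) u) (Nat.ble (nat_lit 27) j)
noncomputable def dp_t0_15 (j u : ℕ) : Bool :=
  Bool.rec (motive := fun _ => Bool) (lF [T_t2, T_t1, T_t0, T_t7, T_t4, T_t0, T_t1, T_t0, T_u1, T_t7] M (Nat.sub (T_t0 u) (Nat.mod (T_t0 u) M)) (Nat.mod (T_t0 u) M) u) (dp_t0_14 j u) (Nat.ble (nat_lit 26) j)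
noncomputable def dp_t0_16 (j u : ℕ) : Bool :=
  Bool.rec (motive := fun _ => Bool) (dp_t0_13 j u) (dp_t0_15 j u) (Nat.ble (nat_lit 25) j)
noncomputable def dp_t0_17 (j u : ℕ) : Bool :=
  Bool.rec (motive := fun _ => Bool) (dp_t0_12 j u) (dp_t0_16 j u) (Nat.ble (nat_lit 23) j)
noncomputable def dp_t0_18 (j u : ℕ) : Bool :=
  Bool.rec (motive := fun _ => Bool) (dp_t0_10 j u) (dp_t0_17 j u) (Nat.ble (nat_lit 20) j)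
noncomputable def dp_t0_19 (j u : ℕ) : Bool :=
  Bool.rec (motive := fun _ => Bool) (dp_t0_8 j u) (dp_t0_18 j u) (Nat.ble (nat_lit 17) j)
noncomputable def dp_t0_20 (j u : ℕ) : Bool :=
  Bool.rec (motive := fun _ => Bool) (Bool.rec (motive := fun _ => Bool) (dp_t0_3 j u) (dp_t0_4 j u) (Nat.ble (nat_lit 10) j)) (dp_t0_19 j u) (Nat.ble (nat_lit 12) j)
noncomputable def dp_t0_21 (j u : ℕ) : Bool :=
  Bool.rec (motive := fun _ => Bool) (Bool.rec (motive := fun _ => Bool) (dp_t0_1 j u) (Bool.rec (motive := fun _ => Bool) (lS MG [T_t0] M (Nat.sub (T_t0 u) (Nat.mod (T_t0 u) M)) (nat_lit 40) (Nat.mod (T_t0 u) M) u) (dp_t0_2 j u) (Nat.ble (nat_lit 6) j)) (Nat.ble (nat_lit 5) j)) (dp_t0_20 j u) (Nat.ble (nat_lit 8) j)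
noncomputable def disp_t0 (j u : ℕ) : Bool :=
  Bool.rec (motive := fun _ => Bool) (Bool.rec (motive := fun _ => Bool) (lF1 T_t0 M (Nat.sub (T_t0 u) (Nat.mod (T_t0 u) M)) (Nat.mod (T_t0 u) M) u) (dp_t0_0 j u) (Nat.ble (nat_lit 1) j)) (dp_t0_21 j u) (Nat.ble (nat_lit 3) j)
noncomputable def chk_t0 (j u : ℕ) : Bool :=
  Bool.rec (motive := fun _ => Bool) (disp_t0 j u) (Nat.ble (Nat.succ (MG u)) A) (Nat.ble A (T_t0 u))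
noncomputable def dp_t1_0 (j u : ℕ) : Bool :=
  Bool.rec (motive := fun _ => Bool) (lF [T_w, T_t6, T_t1, T_t6] M (Nat.sub (T_t1 u) (Nat.mod (T_t1 u) M)) (Nat.mod (T_t1 u) M) u) (lF3 T_u0i T_t1 T_u0 M (Nat.sub (T_t1 u) (Nat.mod (T_t1 u) M)) (Nat.mod (T_t1 u) M) u) (Nat.ble (nat_lit 5) j)
noncomputable def dp_t1_1 (j u : ℕ) : Bool :=
  Bool.rec (motive := fun _ => Bool) (lF [T_t3, T_w, T_t1, T_t3] M (Nat.sub (T_t1 u) (Nat.mod (T_t1 u) M)) (Nat.mod (T_t1 u) M) u) (lF3 T_u0 T_t1 T_u0i M (Nat.sub (T_t1 u) (Nat.mod (T_t1 u) M)) (Nat.mod (T_t1 u) M) u) (Nat.ble (nat_lit 7) j)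
noncomputable def dp_t1_2 (j u : ℕ) : Bool :=
  Bool.rec (motive := fun _ => Bool) (lS MG [T_t1] M (Nat.sub (T_t1 u) (Nat.mod (T_t1 u) M)) (nat_lit 40) (Nat.mod (T_t1 u) M) u) (lF [T_t5, T_t1, T_w, T_t5] M (Nat.sub (T_t1 u) (Nat.mod (T_t1 u) M)) (Nat.mod (T_t1 u) M) u) (Nat.ble (nat_lit 9) j)
noncomputable def dp_t1_3 (j u : ℕ) : Bool :=
  Bool.rec (motive := fun _ => Bool) (lF [T_t2, T_t1, T_t2, T_t1, T_t2] M (Nat.sub (T_t1 u) (Nat.mod (T_t1 u) M)) (Nat.mod (T_t1 u) M) u) (lF3 T_s T_t1 T_s M (Nat.sub (T_t1 u) (Nat.mod (T_t1 u) M)) (Nat.mod (T_t1 u) M) u) (Nat.ble (nat_lit 12) j)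
noncomputable def dp_t1_4 (j u : ℕ) : Bool :=
  Bool.rec (motive := fun _ => Bool) (lF [T_t0, T_t1, T_t0, T_t1, T_t0] M (Nat.sub (T_t1 u) (Nat.mod (T_t1 u) M)) (Nat.mod (T_t1 u) M) u) (dp_t1_3 j u) (Nat.ble (nat_lit 11) j)
noncomputable def dp_t1_5 (j u : ℕ) : Bool :=
  Bool.rec (motive := fun _ => Bool) (lF3 T_u1i T_t1 T_u1 M (Nat.sub (T_t1 u) (Nat.mod (T_t1 u) M)) (Nat.mod (T_t1 u) M) u) (lS MG [T_w, T_t5, T_t1, T_t5] M (Nat.sub (T_t1 u) (Nat.mod (T_t1 u) M)) (nat_lit 40) (Nat.mod (T_t1 u) M) u) (Nat.ble (nat_lit 14) j)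
noncomputable def dp_t1_6 (j u : ℕ) : Bool :=
  Bool.rec (motive := fun _ => Bool) (lF [T_t6, T_t1, T_w, T_t6] M (Nat.sub (T_t1 u) (Nat.mod (T_t1 u) M)) (Nat.mod (T_t1 u) M) u) (lS MG [T_u0i, T_t1, T_u0] M (Nat.sub (T_t1 u) (Nat.mod (T_t1 u) M)) (nat_lit 40) (Nat.mod (T_t1 u) M) u) (Nat.ble (nat_lit 17) j)
noncomputable def dp_t1_7 (j u : ℕ) : Bool :=
  Bool.rec (motive := fun _ => Bool) (lS MG [T_t7, T_u0i, T_t1, T_t6, T_t7, T_t1, T_t6, T_t7, T_t6] M (Nat.sub (T_t1 u) (Nat.mod (T_t1 u) M)) (nat_lit 40) (Nat.mod (T_t1 u) M) u) (dp_t1_6 j u) (Nat.ble (nat_lit 16) j)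
noncomputable def dp_t1_8 (j u : ℕ) : Bool :=
  Bool.rec (motive := fun _ => Bool) (dp_t1_5 j u) (dp_t1_7 j u) (Nat.ble (nat_lit 15) j)
noncomputable def dp_t1_9 (j u : ℕ) : Bool :=
  Bool.rec (motive := fun _ => Bool) (dp_t1_4 j u) (dp_t1_8 j u) (Nat.ble (nat_lit 13) j)
noncomputable def dp_t1_10 (j u : ℕ) : Bool :=
  Bool.rec (motive := fun _ => Bool) (lF [T_t4, T_t1, T_t4, T_t1, T_t4] M (Nat.sub (T_t1 u) (Nat.mod (T_t1 u) M)) (Nat.mod (T_t1 u) M) u) (lS MG [T_t3, T_w, T_t1, T_t3] M (Nat.sub (T_t1 u) (Nat.mod (T_t1 u) M)) (nat_lit 40) (Nat.mod (T_t1 u) M) u) (Nat.ble (nat_lit 19) j)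
noncomputable def dp_t1_11 (j u : ℕ) : Bool :=
  Bool.rec (motive := fun _ => Bool) (lF [T_t7, T_u0i, T_t1, T_t6, T_t7, T_t1, T_t6, T_t7, T_t6] M (Nat.sub (T_t1 u) (Nat.mod (T_t1 u) M)) (Nat.mod (T_t1 u) M) u) (lH [] [] M (Nat.sub (T_t1 u) (Nat.mod (T_t1 u) M)) (Nat.mod (T_t1 u) M) u) (Nat.ble (nat_lit 21) j)
noncomputable def dp_t1_12 (j u : ℕ) : Bool :=
  Bool.rec (motive := fun _ => Bool) (lF [T_t0, T_t4, T_t7, T_t0, T_t1, T_t2, T_t0, T_t7, T_u1i, T_t0] M (Nat.sub (T_t1 u) (Nat.mod (T_t1 u) M)) (Nat.mod (T_t1 u) M) u) (lF3 T_u1 T_t1 T_u1i M (Nat.sub (T_t1 u) (Nat.mod (T_t1 u) M)) (Nat.mod (T_t1 u) M) u) (Nat.ble (nat_lit 24) j)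
noncomputable def dp_t1_13 (j u : ℕ) : Bool :=
  Bool.rec (motive := fun _ => Bool) (lS MG [T_u0, T_t1, T_u0i] M (Nat.sub (T_t1 u) (Nat.mod (T_t1 u) M)) (nat_lit 40) (Nat.mod (T_t1 u) M) u) (dp_t1_12 j u) (Nat.ble (nat_lit 23) j)
noncomputable def dp_t1_14 (j u : ℕ) : Bool :=
  Bool.rec (motive := fun _ => Bool) (dp_t1_11 j u) (dp_t1_13 j u) (Nat.ble (nat_lit 22) j)
noncomputable def dp_t1_15 (j u : ℕ) : Bool :=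
  Bool.rec (motive := fun _ => Bool) (dp_t1_10 j u) (dp_t1_14 j u) (Nat.ble (nat_lit 20) j)
noncomputable def dp_t1_16 (j u : ℕ) : Bool :=
  Bool.rec (motive := fun _ => Bool) (lS MG [T_t3, T_t7, T_t2, T_t7, T_t3, T_s, T_t1, T_t2, T_t7, T_t2] M (Nat.sub (T_t1 u) (Nat.mod (T_t1 u) M)) (nat_lit 40) (Nat.mod (T_t1 u) M) u) (lS MG [T_s, T_t1, T_s] M (Nat.sub (T_t1 u) (Nat.mod (T_t1 u) M)) (nat_lit 40) (Nat.mod (T_t1 u) M) u) (Nat.ble (nat_lit 26) j)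
noncomputable def dp_t1_17 (j u : ℕ) : Bool :=
  Bool.rec (motive := fun _ => Bool) (lF [T_t3, T_t1, T_t3, T_w] M (Nat.sub (T_t1 u) (Nat.mod (T_t1 u) M)) (Nat.mod (T_t1 u) M) u) (lF [T_t2, T_t0, T_t7, T_u1i, T_t0, T_t1, T_t0, T_t4, T_t7, T_t0] M (Nat.sub (T_t1 u) (Nat.mod (T_t1 u) M)) (Nat.mod (T_t1 u) M) u) (Nat.ble (nat_lit 29) j)
noncomputable def dp_t1_18 (j u : ℕ) : Bool :=
  Bool.rec (motive := fun _ => Bool) (lS MG [T_t7, T_t6, T_t1, T_u0, T_t7, T_t1, T_t6, T_t7, T_t6] M (Nat.sub (T_t1 u) (Nat.mod (T_t1 u) M)) (nat_lit 40) (Nat.mod (T_t1 u) M) u) (dp_t1_17 j u) (Nat.ble (nat_lit 28) j)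
noncomputable def dp_t1_19 (j u : ℕ) : Bool :=
  Bool.rec (motive := fun _ => Bool) (dp_t1_16 j u) (dp_t1_18 j u) (Nat.ble (nat_lit 27) j)
noncomputable def dp_t1_20 (j u : ℕ) : Bool :=
  Bool.rec (motive := fun _ => Bool) (lF [T_t2, T_t7, T_t2, T_t1, T_t3, T_t7, T_t2, T_t7, T_t3, T_s] M (Nat.sub (T_t1 u) (Nat.mod (T_t1 u) M)) (Nat.mod (T_t1 u) M) u) (lS MG [T_t2, T_t3, T_t4, T_t5, T_t6, T_t0, T_t1, T_t2, T_t3, T_t4, T_t5, T_t6, T_t0, T_t1, T_t2, T_t3, T_t4, T_t5, T_t6, T_t0, T_t1, T_t2, T_t3, T_t4, T_t5, T_t6, T_vi, T_t0, T_t1, T_t2, T_t3, T_t4, T_t5, T_t6, T_t0, T_t1, T_t2, T_t3, T_t4, T_t5, T_t6, T_t0, T_t1, T_t2, T_t3, T_t4, T_t5, T_t6, T_t0, T_t1, T_t2, T_t3, T_t4, T_t5, T_t6, T_t0, T_t1, T_t2, T_t3, T_t4, T_t5, T_t6, T_t0] M (Nat.sub (T_t1 u) (Nat.mod (T_t1 u) M)) (nat_lit 40) (Nat.mod (T_t1 u) M) u) (Nat.ble (nat_lit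 32) j)
noncomputable def dp_t1_21 (j u : ℕ) : Bool :=
  Bool.rec (motive := fun _ => Bool) (lF [T_t0, T_t7, T_t4, T_t0, T_t1, T_t0, T_u1, T_t7, T_t0, T_t2] M (Nat.sub (T_t1 u) (Nat.mod (T_t1 u) M)) (Nat.mod (T_t1 u) M) u) (dp_t1_20 j u) (Nat.ble (nat_lit 31) j)
noncomputable def dp_t1_22 (j u : ℕ) : Bool :=
  Bool.rec (motive := fun _ => Bool) (lF [T_t3, T_t7, T_t2, T_t7, T_t3, T_s, T_t1, T_t2, T_t7, T_t2] M (Nat.sub (T_t1 u) (Nat.mod (T_t1 u) M)) (Nat.mod (T_t1 u) M) u) (lS MG [T_t0, T_t1, T_t0, T_t1, T_t0] M (Nat.sub (T_t1 u) (Nat.mod (T_t1 u) M)) (nat_lit 40) (Nat.mod (T_t1 u) M) u) (Nat.ble (nat_lit 35) j)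
noncomputable def dp_t1_23 (j u : ℕ) : Bool :=
  Bool.rec (motive := fun _ => Bool) (lS MG [T_t0, T_t6, T_t5, T_t4, T_t3, T_t2, T_t1, T_t0, T_t6, T_t5, T_t4, T_t3, T_t2, T_t1, T_t0, T_t6, T_t5, T_t4, T_t3, T_t2, T_t1, T_t0, T_t6, T_t5, T_t4, T_t3, T_t2, T_t1, T_t0, T_v, T_t6, T_t5, T_t4, T_t3, T_t2, T_t1, T_t0, T_t6, T_t5, T_t4, T_t3, T_t2, T_t1, T_t0, T_t6, T_t5, T_t4, T_t3, T_t2, T_t1, T_t0, T_t6, T_t5, T_t4, T_t3, T_t2, T_t1, T_t0, T_t6, T_t5, T_t4, T_t3, T_t2] M (Nat.sub (T_t1 u) (Nat.mod (T_t1 u) M)) (nat_lit 40) (Nat.mod (T_t1 u) M) u) (dp_t1_22 j u) (Nat.ble (nat_lit 34) j)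
noncomputable def dp_t1_24 (j u : ℕ) : Bool :=
  Bool.rec (motive := fun _ => Bool) (dp_t1_21 j u) (dp_t1_23 j u) (Nat.ble (nat_lit 33) j)
noncomputable def dp_t1_25 (j u : ℕ) : Bool :=
  Bool.rec (motive := fun _ => Bool) (dp_t1_19 j u) (dp_t1_24 j u) (Nat.ble (nat_lit 30) j)
noncomputable def dp_t1_26 (j u : ℕ) : Bool :=
  Bool.rec (motive := fun _ => Bool) (dp_t1_15 j u) (dp_t1_25 j u) (Nat.ble (nat_lit 25) j)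
noncomputable def dp_t1_27 (j u : ℕ) : Bool :=
  Bool.rec (motive := fun _ => Bool) (dp_t1_9 j u) (dp_t1_26 j u) (Nat.ble (nat_lit 18) j)
noncomputable def dp_t1_28 (j u : ℕ) : Bool :=
  Bool.rec (motive := fun _ => Bool) (Bool.rec (motive := fun _ => Bool) (dp_t1_1 j u) (dp_t1_2 j u) (Nat.ble (nat_lit 8) j)) (dp_t1_27 j u) (Nat.ble (nat_lit 10) j)
noncomputable def disp_t1 (j u : ℕ) : Bool :=
  Bool.rec (motive := fun _ => Bool) (Bool.rec (motive := fun _ => Bool) (lF1 T_t1 M (Nat.sub (T_t1 u) (Nat.mod (T_t1 u) M)) (Nat.mod (T_t1 u) M) u) (lDef P (nat_lit 1) (Nat.mod (T_t1 u) M) u) (Nat.ble (nat_lit 1) j)) (Bool.rec (motive := fun _ => Bool) (Bool.rec (motive := fun _ => Bool) (Bool.rec (motive := fun _ => Bool) (lDef P (nat_lit 1) u (Nat.mod (T_t1 u) M)) (lF [T_w, T_t5, T_t1, T_t5] M (Nat.sub (T_t1 u) (Nat.mod (T_t1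 u) M)) (Nat.mod (T_t1 u) M) u) (Nat.ble (nat_lit 3) j)) (dp_t1_0 j u) (Nat.ble (nat_lit 4) j)) (dp_t1_28 j u) (Nat.ble (nat_lit 6) j)) (Nat.ble (nat_lit 2) j)
noncomputable def chk_t1 (j u : ℕ) : Bool :=
  Bool.rec (motive := fun _ => Bool) (disp_t1 j u) (Nat.ble (Nat.succ (MG u)) A) (Nat.ble A (T_t1 u))
noncomputable def dp_t2_0 (j u : ℕ) : Bool :=
  Bool.rec (motive := fun _ => Bool) (lF [T_w, T_t6, T_t2, T_t6] M (Nat.sub (T_t2 u) (Nat.mod (T_t2 u) M)) (Nat.mod (T_t2 u) M) u) (lF [T_w, T_t5, T_t2, T_t5] M (Nat.sub (T_t2 u) (Nat.mod (T_t2 u) M)) (Nat.mod (T_t2 u) M) u) (Nat.ble (nat_lit 5) j)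
noncomputable def dp_t2_1 (j u : ℕ) : Bool :=
  Bool.rec (motive := fun _ => Bool) (lF3 T_u0i T_t2 T_u0 M (Nat.sub (T_t2 u) (Nat.mod (T_t2 u) M)) (Nat.mod (T_t2 u) M) u) (lF [T_w, T_t4, T_t2, T_t4] M (Nat.sub (T_t2 u) (Nat.mod (T_t2 u) M)) (Nat.mod (T_t2 u) M) u) (Nat.ble (nat_lit 8) j)
noncomputable def dp_t2_2 (j u : ℕ) : Bool :=
  Bool.rec (motive := fun _ => Bool) (lS MG [T_t2] M (Nat.sub (T_t2 u) (Nat.mod (T_t2 u) M)) (nat_lit 40) (Nat.mod (T_t2 u) M) u) (dp_t2_1 j u) (Nat.ble (nat_lit 7) j)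
noncomputable def dp_t2_3 (j u : ℕ) : Bool :=
  Bool.rec (motive := fun _ => Bool) (lF [T_t4, T_t2, T_w, T_t4] M (Nat.sub (T_t2 u) (Nat.mod (T_t2 u) M)) (Nat.mod (T_t2 u) M) u) (lF [T_t5, T_t2, T_w, T_t5] M (Nat.sub (T_t2 u) (Nat.mod (T_t2 u) M)) (Nat.mod (T_t2 u) M) u) (Nat.ble (nat_lit 10) j)
noncomputable def dp_t2_4 (j u : ℕ) : Bool :=
  Bool.rec (motive := fun _ => Bool) (lF [T_t1, T_t2, T_t1, T_t2, T_t1] M (Nat.sub (T_t2 u) (Nat.mod (T_t2 u) M)) (Nat.mod (T_t2 u) M) u) (lF3 T_s T_t2 T_s M (Nat.sub (T_t2 u) (Nat.mod (T_t2 u) M)) (Nat.mod (T_t2 u) M) u) (Nat.ble (nat_lit 13) j)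
noncomputable def dp_t2_5 (j u : ℕ) : Bool :=
  Bool.rec (motive := fun _ => Bool) (lF [T_t7, T_t3, T_s, T_t1, T_t2, T_t7, T_t2, T_t1, T_t3, T_t7] M (Nat.sub (T_t2 u) (Nat.mod (T_t2 u) M)) (Nat.mod (T_t2 u) M) u) (dp_t2_4 j u) (Nat.ble (nat_lit 12) j)
noncomputable def dp_t2_6 (j u : ℕ) : Bool :=
  Bool.rec (motive := fun _ => Bool) (dp_t2_3 j u) (dp_t2_5 j u) (Nat.ble (nat_lit 11) j)
noncomputable def dp_t2_7 (j u : ℕ) : Bool :=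
  Bool.rec (motive := fun _ => Bool) (lF3 T_u1i T_t2 T_u1 M (Nat.sub (T_t2 u) (Nat.mod (T_t2 u) M)) (Nat.mod (T_t2 u) M) u) (lS MG [T_w, T_t5, T_t2, T_t5] M (Nat.sub (T_t2 u) (Nat.mod (T_t2 u) M)) (nat_lit 40) (Nat.mod (T_t2 u) M) u) (Nat.ble (nat_lit 15) j)
noncomputable def dp_t2_8 (j u : ℕ) : Bool :=
  Bool.rec (motive := fun _ => Bool) (lF [T_w, T_t0, T_t2, T_t0] M (Nat.sub (T_t2 u) (Nat.mod (T_t2 u) M)) (Nat.mod (T_t2 u) M) u) (lH [] [] M (Nat.sub (T_t2 u) (Nat.mod (T_t2 u) M)) (Nat.mod (T_t2 u) M) u) (Nat.ble (nat_lit 17) j)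
noncomputable def dp_t2_9 (j u : ℕ) : Bool :=
  Bool.rec (motive := fun _ => Bool) (lF3 T_u1 T_t2 T_u1i M (Nat.sub (T_t2 u) (Nat.mod (T_t2 u) M)) (Nat.mod (T_t2 u) M) u) (lS MG [T_s, T_t2, T_s] M (Nat.sub (T_t2 u) (Nat.mod (T_t2 u) M)) (nat_lit 40) (Nat.mod (T_t2 u) M) u) (Nat.ble (nat_lit 20) j)
noncomputable def dp_t2_10 (j u : ℕ) : Bool :=
  Bool.rec (motive := fun _ => Bool) (lF [T_t0, T_t7, T_u1i, T_t0, T_t1, T_t0, T_t4, T_t7, T_t0, T_t1] M (Nat.sub (T_t2 u) (Nat.mod (T_t2 u) M)) (Nat.mod (T_t2 u) M) u) (dp_t2_9 j u) (Nat.ble (nat_lit 19) j)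
noncomputable def dp_t2_11 (j u : ℕ) : Bool :=
  Bool.rec (motive := fun _ => Bool) (dp_t2_8 j u) (dp_t2_10 j u) (Nat.ble (nat_lit 18) j)
noncomputable def dp_t2_12 (j u : ℕ) : Bool :=
  Bool.rec (motive := fun _ => Bool) (dp_t2_7 j u) (dp_t2_11 j u) (Nat.ble (nat_lit 16) j)
noncomputable def dp_t2_13 (j u : ℕ) : Bool :=
  Bool.rec (motive := fun _ => Bool) (lS MG [T_t1, T_t2, T_t1, T_t2, T_t1] M (Nat.sub (T_t2 u) (Nat.mod (T_t2 u) M)) (nat_lit 40) (Nat.mod (T_t2 u) M) u) (lS MG [T_u0, T_t2, T_u0i] M (Nat.sub (T_t2 u) (Nat.mod (T_t2 u) M)) (nat_lit 40) (Nat.mod (T_t2 u) M) u) (Nat.ble (nat_lit 22) j)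
noncomputable def dp_t2_14 (j u : ℕ) : Bool :=
  Bool.rec (motive := fun _ => Bool) (lF [T_t3, T_t2, T_t3, T_t2, T_t3] M (Nat.sub (T_t2 u) (Nat.mod (T_t2 u) M)) (Nat.mod (T_t2 u) M) u) (lS MG [T_w, T_t4, T_t2, T_t4] M (Nat.sub (T_t2 u) (Nat.mod (T_t2 u) M)) (nat_lit 40) (Nat.mod (T_t2 u) M) u) (Nat.ble (nat_lit 25) j)
noncomputable def dp_t2_15 (j u : ℕ) : Bool :=
  Bool.rec (motive := fun _ => Bool) (lS MG [T_t0, T_t7, T_u1i, T_t0, T_t1, T_t0, T_t4, T_t7, T_t0, T_t1] M (Nat.sub (T_t2 u) (Nat.mod (T_t2 u) M)) (nat_lit 40) (Nat.mod (T_t2 u) M) u) (dp_t2_14 j u) (Nat.ble (nat_lit 24) j)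
noncomputable def dp_t2_16 (j u : ℕ) : Bool :=
  Bool.rec (motive := fun _ => Bool) (dp_t2_13 j u) (dp_t2_15 j u) (Nat.ble (nat_lit 23) j)
noncomputable def dp_t2_17 (j u : ℕ) : Bool :=
  Bool.rec (motive := fun _ => Bool) (lS MG [T_t3, T_t2, T_t3, T_t2, T_t3] M (Nat.sub (T_t2 u) (Nat.mod (T_t2 u) M)) (nat_lit 40) (Nat.mod (T_t2 u) M) u) (lS MG [T_u0i, T_t2, T_u0] M (Nat.sub (T_t2 u) (Nat.mod (T_t2 u) M)) (nat_lit 40) (Nat.mod (T_t2 u) M) u) (Nat.ble (nat_lit 27) j)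
noncomputable def dp_t2_18 (j u : ℕ) : Bool :=
  Bool.rec (motive := fun _ => Bool) (lF [T_t6, T_t2, T_w, T_t6] M (Nat.sub (T_t2 u) (Nat.mod (T_t2 u) M)) (Nat.mod (T_t2 u) M) u) (lF [T_t0, T_t2, T_w, T_t0] M (Nat.sub (T_t2 u) (Nat.mod (T_t2 u) M)) (Nat.mod (T_t2 u) M) u) (Nat.ble (nat_lit 30) j)
noncomputable def dp_t2_19 (j u : ℕ) : Bool :=
  Bool.rec (motive := fun _ => Bool) (lS MG [T_t7, T_t3, T_s, T_t1, T_t2, T_t7, T_t2, T_t1, T_t3, T_t7] M (Nat.sub (T_t2 u) (Nat.mod (T_t2 u) M)) (nat_lit 40) (Nat.mod (T_t2 u) M) u) (dp_t2_18 j u) (Nat.ble (nat_lit 29) j)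
noncomputable def dp_t2_20 (j u : ℕ) : Bool :=
  Bool.rec (motive := fun _ => Bool) (dp_t2_17 j u) (dp_t2_19 j u) (Nat.ble (nat_lit 28) j)
noncomputable def dp_t2_21 (j u : ℕ) : Bool :=
  Bool.rec (motive := fun _ => Bool) (dp_t2_16 j u) (dp_t2_20 j u) (Nat.ble (nat_lit 26) j)
noncomputable def dp_t2_22 (j u : ℕ) : Bool :=
  Bool.rec (motive := fun _ => Bool) (dp_t2_12 j u) (dp_t2_21 j u) (Nat.ble (nat_lit 21) j)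
noncomputable def dp_t2_23 (j u : ℕ) : Bool :=
  Bool.rec (motive := fun _ => Bool) (dp_t2_6 j u) (dp_t2_22 j u) (Nat.ble (nat_lit 14) j)
noncomputable def dp_t2_24 (j u : ℕ) : Bool :=
  Bool.rec (motive := fun _ => Bool) (dp_t2_2 j u) (dp_t2_23 j u) (Nat.ble (nat_lit 9) j)
noncomputable def disp_t2 (j u : ℕ) : Bool :=
  Bool.rec (motive := fun _ => Bool) (Bool.rec (motive := fun _ => Bool) (lF1 T_t2 M (Nat.sub (T_t2 u) (Nat.mod (T_t2 u) M)) (Nat.mod (T_t2 u) M) u) (lDef P (nat_lit 2) (Nat.mod (T_t2 u) M) u) (Nat.ble (nat_lit 1) j)) (Bool.rec (motive := fun _ => Bool) (Bool.rec (motive := fun _ => Bool) (Bool.rec (motive := fun _ => Bool) (lDef P (nat_lit 2) u (Nat.mod (T_t2 u) M)) (lF3 T_u0 T_t2 T_u0i M (Nat.sub (T_t2 u) (Nat.mod (T_t2 u) M)) (Nat.mod (T_t2 u) M) u) (Nat.ble (nat_lit 3) j)) (dp_t2_0 j u) (Nat.ble (nat_lit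 4) j)) (dp_t2_24 j u) (Nat.ble (nat_lit 6) j)) (Nat.ble (nat_lit 2) j)
noncomputable def chk_t2 (j u : ℕ) : Bool :=
  Bool.rec (motive := fun _ => Bool) (disp_t2 j u) (Nat.ble (Nat.succ (MG u)) A) (Nat.ble A (T_t2 u))
noncomputable def dp_t3_0 (j u : ℕ) : Bool :=
  Bool.rec (motive := fun _ => Bool) (lF [T_w, T_t6, T_t3, T_t6] M (Nat.sub (T_t3 u) (Nat.mod (T_t3 u) M)) (Nat.mod (T_t3 u) M) u) (lF3 T_u0i T_t3 T_u0 M (Nat.sub (T_t3 u) (Nat.mod (T_t3 u) M)) (Nat.mod (T_t3 u) M) u) (Nat.ble (nat_lit 5) j)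
noncomputable def dp_t3_1 (j u : ℕ) : Bool :=
  Bool.rec (motive := fun _ => Bool) (lF3 T_u0 T_t3 T_u0i M (Nat.sub (T_t3 u) (Nat.mod (T_t3 u) M)) (Nat.mod (T_t3 u) M) u) (lF [T_w, T_t4, T_t3, T_t4] M (Nat.sub (T_t3 u) (Nat.mod (T_t3 u) M)) (Nat.mod (T_t3 u) M) u) (Nat.ble (nat_lit 7) j)
noncomputable def dp_t3_2 (j u : ℕ) : Bool :=
  Bool.rec (motive := fun _ => Bool) (lS MG [T_t3] M (Nat.sub (T_t3 u) (Nat.mod (T_t3 u) M)) (nat_lit 40) (Nat.mod (T_t3 u) M) u) (lF [T_t5, T_t3, T_w, T_t5] M (Nat.sub (T_t3 u) (Nat.mod (T_t3 u) M)) (Nat.mod (T_t3 u) M) u) (Nat.ble (nat_lit 9) j)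
noncomputable def dp_t3_3 (j u : ℕ) : Bool :=
  Bool.rec (motive := fun _ => Bool) (lF [T_w, T_t1, T_t3, T_t1] M (Nat.sub (T_t3 u) (Nat.mod (T_t3 u) M)) (Nat.mod (T_t3 u) M) u) (lF [T_w, T_t0, T_t3, T_t0] M (Nat.sub (T_t3 u) (Nat.mod (T_t3 u) M)) (Nat.mod (T_t3 u) M) u) (Nat.ble (nat_lit 13) j)
noncomputable def dp_t3_4 (j u : ℕ) : Bool :=
  Bool.rec (motive := fun _ => Bool) (lF [T_t6, T_t3, T_w, T_t6] M (Nat.sub (T_t3 u) (Nat.mod (T_t3 u) M)) (Nat.mod (T_t3 u) M) u) (dp_t3_3 j u) (Nat.ble (nat_lit 12) j)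
noncomputable def dp_t3_5 (j u : ℕ) : Bool :=
  Bool.rec (motive := fun _ => Bool) (lF [T_t4, T_t3, T_w, T_t4] M (Nat.sub (T_t3 u) (Nat.mod (T_t3 u) M)) (Nat.mod (T_t3 u) M) u) (dp_t3_4 j u) (Nat.ble (nat_lit 11) j)
noncomputable def dp_t3_6 (j u : ℕ) : Bool :=
  Bool.rec (motive := fun _ => Bool) (lF [T_t2, T_t3, T_t2, T_t3, T_t2] M (Nat.sub (T_t3 u) (Nat.mod (T_t3 u) M)) (Nat.mod (T_t3 u) M) u) (lS MG [T_w, T_t5, T_t3, T_t5] M (Nat.sub (T_t3 u) (Nat.mod (T_t3 u) M)) (nat_lit 40) (Nat.mod (T_t3 u) M) u) (Nat.ble (nat_lit 15) j)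
noncomputable def dp_t3_7 (j u : ℕ) : Bool :=
  Bool.rec (motive := fun _ => Bool) (lS MG [T_w, T_t6, T_t3, T_t6] M (Nat.sub (T_t3 u) (Nat.mod (T_t3 u) M)) (nat_lit 40) (Nat.mod (T_t3 u) M) u) (lF [T_t1, T_t3, T_w, T_t1] M (Nat.sub (T_t3 u) (Nat.mod (T_t3 u) M)) (Nat.mod (T_t3 u) M) u) (Nat.ble (nat_lit 17) j)
noncomputable def dp_t3_8 (j u : ℕ) : Bool :=
  Bool.rec (motive := fun _ => Bool) (dp_t3_6 j u) (dp_t3_7 j u) (Nat.ble (nat_lit 16) j)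
noncomputable def dp_t3_9 (j u : ℕ) : Bool :=
  Bool.rec (motive := fun _ => Bool) (lH [] [] M (Nat.sub (T_t3 u) (Nat.mod (T_t3 u) M)) (Nat.mod (T_t3 u) M) u) (lF3 T_s T_t3 T_s M (Nat.sub (T_t3 u) (Nat.mod (T_t3 u) M)) (Nat.mod (T_t3 u) M) u) (Nat.ble (nat_lit 19) j)
noncomputable def dp_t3_10 (j u : ℕ) : Bool :=
  Bool.rec (motive := fun _ => Bool) (lS MG [T_s, T_t1, T_t2, T_t7, T_t2, T_t1, T_t3, T_t7, T_t2, T_t7] M (Nat.sub (T_t3 u) (Nat.mod (T_t3 u) M)) (nat_lit 40) (Nat.mod (T_t3 u) M) u) (lF3 T_u1i T_t3 T_u1 M (Nat.sub (T_t3 u) (Nat.mod (T_t3 u) M)) (Nat.mod (T_t3 u) M) u) (Nat.ble (nat_lit 21) j)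
noncomputable def dp_t3_11 (j u : ℕ) : Bool :=
  Bool.rec (motive := fun _ => Bool) (dp_t3_9 j u) (dp_t3_10 j u) (Nat.ble (nat_lit 20) j)
noncomputable def dp_t3_12 (j u : ℕ) : Bool :=
  Bool.rec (motive := fun _ => Bool) (lS MG [T_u0, T_t3, T_u0i] M (Nat.sub (T_t3 u) (Nat.mod (T_t3 u) M)) (nat_lit 40) (Nat.mod (T_t3 u) M) u) (lF [T_t0, T_t3, T_w, T_t0] M (Nat.sub (T_t3 u) (Nat.mod (T_t3 u) M)) (Nat.mod (T_t3 u) M) u) (Nat.ble (nat_lit 23) j)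
noncomputable def dp_t3_13 (j u : ℕ) : Bool :=
  Bool.rec (motive := fun _ => Bool) (lF [T_s, T_t1, T_t2, T_t7, T_t2, T_t1, T_t3, T_t7, T_t2, T_t7] M (Nat.sub (T_t3 u) (Nat.mod (T_t3 u) M)) (Nat.mod (T_t3 u) M) u) (lS MG [T_u0i, T_t3, T_u0] M (Nat.sub (T_t3 u) (Nat.mod (T_t3 u) M)) (nat_lit 40) (Nat.mod (T_t3 u) M) u) (Nat.ble (nat_lit 26) j)
noncomputable def dp_t3_14 (j u : ℕ) : Bool :=
  Bool.rec (motive := fun _ => Bool) (lF [T_t7, T_t2, T_t7, T_t3, T_s, T_t1, T_t2, T_t7, T_t2, T_t1] M (Nat.sub (T_t3 u) (Nat.mod (T_t3 u) M)) (Nat.mod (T_t3 u) M) u) (dp_t3_13 j u) (Nat.ble (nat_lit 25) j)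
noncomputable def dp_t3_15 (j u : ℕ) : Bool :=
  Bool.rec (motive := fun _ => Bool) (dp_t3_12 j u) (dp_t3_14 j u) (Nat.ble (nat_lit 24) j)
noncomputable def dp_t3_16 (j u : ℕ) : Bool :=
  Bool.rec (motive := fun _ => Bool) (dp_t3_11 j u) (dp_t3_15 j u) (Nat.ble (nat_lit 22) j)
noncomputable def dp_t3_17 (j u : ℕ) : Bool :=
  Bool.rec (motive := fun _ => Bool) (dp_t3_8 j u) (dp_t3_16 j u) (Nat.ble (nat_lit 18) j)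
noncomputable def dp_t3_18 (j u : ℕ) : Bool :=
  Bool.rec (motive := fun _ => Bool) (dp_t3_5 j u) (dp_t3_17 j u) (Nat.ble (nat_lit 14) j)
noncomputable def dp_t3_19 (j u : ℕ) : Bool :=
  Bool.rec (motive := fun _ => Bool) (Bool.rec (motive := fun _ => Bool) (dp_t3_1 j u) (dp_t3_2 j u) (Nat.ble (nat_lit 8) j)) (dp_t3_18 j u) (Nat.ble (nat_lit 10) j)
noncomputable def disp_t3 (j u : ℕ) : Bool :=
  Bool.rec (motive := fun _ => Bool) (Bool.rec (motive := fun _ => Bool) (lF1 T_t3 M (Nat.sub (T_t3 u) (Nat.mod (T_t3 u) M)) (Nat.mod (T_t3 u) M) u) (lDef P (nat_lit 3) (Nat.mod (T_t3 u) M) u) (Nat.ble (nat_lit 1) j)) (Bool.rec (motive := fun _ => Bool) (Bool.rec (motive := fun _ => Bool) (lDef P (nat_lit 3) u (Nat.mod (T_t3 u) M)) (Bool.rec (motive := fun _ => Bool) (lF [T_w, T_t5, T_t3, T_t5] M (Nat.sub (T_t3 u) (Nat.mod (T_t3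 u) M)) (Nat.mod (T_t3 u) M) u) (dp_t3_0 j u) (Nat.ble (nat_lit 4) j)) (Nat.ble (nat_lit 3) j)) (dp_t3_19 j u) (Nat.ble (nat_lit 6) j)) (Nat.ble (nat_lit 2) j)
noncomputable def chk_t3 (j u : ℕ) : Bool :=
  Bool.rec (motive := fun _ => Bool) (disp_t3 j u) (Nat.ble (Nat.succ (MG u)) A) (Nat.ble A (T_t3 u))
noncomputable def dp_t4_0 (j u : ℕ) : Bool :=
  Bool.rec (motive := fun _ => Bool) (lF [T_t3, T_w, T_t4, T_t3] M (Nat.sub (T_t4 u) (Nat.mod (T_t4 u) M)) (Nat.mod (T_t4 u) M) u) (lF [T_t0, T_t1, T_t0, T_u1, T_t7, T_t0, T_t2, T_t1, T_t0, T_t7] M (Nat.sub (T_t4 u) (Nat.mod (T_t4 u) M)) (Nat.mod (T_t4 u) M) u) (Nat.ble (nat_lit 8) j)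
noncomputable def dp_t4_1 (j u : ℕ) : Bool :=
  Bool.rec (motive := fun _ => Bool) (lF3 T_u0 T_t4 T_u0i M (Nat.sub (T_t4 u) (Nat.mod (T_t4 u) M)) (Nat.mod (T_t4 u) M) u) (dp_t4_0 j u) (Nat.ble (nat_lit 7) j)
noncomputable def dp_t4_2 (j u : ℕ) : Bool :=
  Bool.rec (motive := fun _ => Bool) (lF [T_t0, T_w, T_t4, T_t0] M (Nat.sub (T_t4 u) (Nat.mod (T_t4 u) M)) (Nat.mod (T_t4 u) M) u) (lF [T_t2, T_w, T_t4, T_t2] M (Nat.sub (T_t4 u) (Nat.mod (T_t4 u) M)) (Nat.mod (T_t4 u) M) u) (Nat.ble (nat_lit 10) j)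
noncomputable def dp_t4_3 (j u : ℕ) : Bool :=
  Bool.rec (motive := fun _ => Bool) (lF [T_t1, T_t4, T_t1, T_t4, T_t1] M (Nat.sub (T_t4 u) (Nat.mod (T_t4 u) M)) (Nat.mod (T_t4 u) M) u) (lF [T_t0, T_t4, T_t0, T_w] M (Nat.sub (T_t4 u) (Nat.mod (T_t4 u) M)) (Nat.mod (T_t4 u) M) u) (Nat.ble (nat_lit 12) j)
noncomputable def dp_t4_4 (j u : ℕ) : Bool :=
  Bool.rec (motive := fun _ => Bool) (dp_t4_2 j u) (dp_t4_3 j u) (Nat.ble (nat_lit 11) j)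
noncomputable def dp_t4_5 (j u : ℕ) : Bool :=
  Bool.rec (motive := fun _ => Bool) (lS MG [T_u0, T_t4, T_u0i] M (Nat.sub (T_t4 u) (Nat.mod (T_t4 u) M)) (nat_lit 40) (Nat.mod (T_t4 u) M) u) (lS MG [T_t5, T_t4, T_t5, T_t4, T_t5] M (Nat.sub (T_t4 u) (Nat.mod (T_t4 u) M)) (nat_lit 40) (Nat.mod (T_t4 u) M) u) (Nat.ble (nat_lit 14) j)
noncomputable def dp_t4_6 (j u : ℕ) : Bool :=
  Bool.rec (motive := fun _ => Bool) (lS MG [T_t3, T_w, T_t4, T_t3] M (Nat.sub (T_t4 u) (Nat.mod (T_t4 u) M)) (nat_lit 40) (Nat.mod (T_t4 u) M) u) (lF [T_t7, T_t0, T_t1, T_t2, T_t0, T_t7, T_u1i, T_t0, T_t1, T_t0] M (Nat.sub (T_t4 u) (Nat.mod (T_t4 u) M)) (Nat.mod (T_t4 u) M) u) (Nat.ble (nat_lit 17) j)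
noncomputable def dp_t4_7 (j u : ℕ) : Bool :=
  Bool.rec (motive := fun _ => Bool) (lF3 T_u1i T_t4 T_u1 M (Nat.sub (T_t4 u) (Nat.mod (T_t4 u) M)) (Nat.mod (T_t4 u) M) u) (dp_t4_6 j u) (Nat.ble (nat_lit 16) j)
noncomputable def dp_t4_8 (j u : ℕ) : Bool :=
  Bool.rec (motive := fun _ => Bool) (dp_t4_5 j u) (dp_t4_7 j u) (Nat.ble (nat_lit 15) j)
noncomputable def dp_t4_9 (j u : ℕ) : Bool :=
  Bool.rec (motive := fun _ => Bool) (lF3 T_u1 T_t4 T_u1i M (Nat.sub (T_t4 u) (Nat.mod (T_t4 u) M)) (Nat.mod (T_t4 u) M) u) (lS MG [T_t0, T_w, T_t4, T_t0] M (Nat.sub (T_t4 u) (Nat.mod (T_t4 u) M)) (nat_lit 40) (Nat.mod (T_t4 u) M) u) (Nat.ble (nat_lit 21) j)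
noncomputable def dp_t4_10 (j u : ℕ) : Bool :=
  Bool.rec (motive := fun _ => Bool) (lH [] [] M (Nat.sub (T_t4 u) (Nat.mod (T_t4 u) M)) (Nat.mod (T_t4 u) M) u) (dp_t4_9 j u) (Nat.ble (nat_lit 20) j)
noncomputable def dp_t4_11 (j u : ℕ) : Bool :=
  Bool.rec (motive := fun _ => Bool) (lF [T_t2, T_t4, T_t2, T_w] M (Nat.sub (T_t4 u) (Nat.mod (T_t4 u) M)) (Nat.mod (T_t4 u) M) u) (dp_t4_10 j u) (Nat.ble (nat_lit 19) j)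
noncomputable def dp_t4_12 (j u : ℕ) : Bool :=
  Bool.rec (motive := fun _ => Bool) (lS MG [T_w, T_t6, T_t4, T_t6] M (Nat.sub (T_t4 u) (Nat.mod (T_t4 u) M)) (nat_lit 40) (Nat.mod (T_t4 u) M) u) (lS MG [T_t6, T_t4, T_w, T_t6] M (Nat.sub (T_t4 u) (Nat.mod (T_t4 u) M)) (nat_lit 40) (Nat.mod (T_t4 u) M) u) (Nat.ble (nat_lit 24) j)
noncomputable def dp_t4_13 (j u : ℕ) : Bool :=
  Bool.rec (motive := fun _ => Bool) (lS MG [T_u0i, T_t4, T_u0] M (Nat.sub (T_t4 u) (Nat.mod (T_t4 u) M)) (nat_lit 40) (Nat.mod (T_t4 u) M) u) (dp_t4_12 j u) (Nat.ble (nat_lit 23) j)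
noncomputable def dp_t4_14 (j u : ℕ) : Bool :=
  Bool.rec (motive := fun _ => Bool) (lF [T_t6, T_t4, T_w, T_t6] M (Nat.sub (T_t4 u) (Nat.mod (T_t4 u) M)) (Nat.mod (T_t4 u) M) u) (lF [T_t3, T_t4, T_t3, T_w] M (Nat.sub (T_t4 u) (Nat.mod (T_t4 u) M)) (Nat.mod (T_t4 u) M) u) (Nat.ble (nat_lit 27) j)
noncomputable def dp_t4_15 (j u : ℕ) : Bool :=
  Bool.rec (motive := fun _ => Bool) (lF [T_t5, T_t4, T_t5, T_t4, T_t5] M (Nat.sub (T_t4 u) (Nat.mod (T_t4 u) M)) (Nat.mod (T_t4 u) M) u) (dp_t4_14 j u) (Nat.ble (nat_lit 26) j)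
noncomputable def dp_t4_16 (j u : ℕ) : Bool :=
  Bool.rec (motive := fun _ => Bool) (dp_t4_13 j u) (dp_t4_15 j u) (Nat.ble (nat_lit 25) j)
noncomputable def dp_t4_17 (j u : ℕ) : Bool :=
  Bool.rec (motive := fun _ => Bool) (dp_t4_11 j u) (dp_t4_16 j u) (Nat.ble (nat_lit 22) j)
noncomputable def dp_t4_18 (j u : ℕ) : Bool :=
  Bool.rec (motive := fun _ => Bool) (dp_t4_8 j u) (dp_t4_17 j u) (Nat.ble (nat_lit 18) j)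
noncomputable def dp_t4_19 (j u : ℕ) : Bool :=
  Bool.rec (motive := fun _ => Bool) (dp_t4_4 j u) (dp_t4_18 j u) (Nat.ble (nat_lit 13) j)
noncomputable def dp_t4_20 (j u : ℕ) : Bool :=
  Bool.rec (motive := fun _ => Bool) (Bool.rec (motive := fun _ => Bool) (lS MG [T_t4] M (Nat.sub (T_t4 u) (Nat.mod (T_t4 u) M)) (nat_lit 40) (Nat.mod (T_t4 u) M) u) (dp_t4_1 j u) (Nat.ble (nat_lit 6) j)) (dp_t4_19 j u) (Nat.ble (nat_lit 9) j)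
noncomputable def disp_t4 (j u : ℕ) : Bool :=
  Bool.rec (motive := fun _ => Bool) (Bool.rec (motive := fun _ => Bool) (lF1 T_t4 M (Nat.sub (T_t4 u) (Nat.mod (T_t4 u) M)) (Nat.mod (T_t4 u) M) u) (lDef P (nat_lit 4) (Nat.mod (T_t4 u) M) u) (Nat.ble (nat_lit 1) j)) (Bool.rec (motive := fun _ => Bool) (Bool.rec (motive := fun _ => Bool) (lDef P (nat_lit 4) u (Nat.mod (T_t4 u) M)) (Bool.rec (motive := fun _ => Bool) (lF3 T_u0i T_t4 T_u0 M (Nat.sub (T_t4 u) (Nat.mod (T_t4 u) M)) (Nat.mod (T_t4 u) M) u) (lF [T_w, T_t6, T_t4, T_t6] M (Nat.sub (T_t4 u) (Nat.mod (T_t4 u) M)) (Nat.mod (T_t4 u) M) u) (Nat.ble (nat_lit 4) j)) (Nat.ble (nat_lit 3) j)) (dp_t4_20 j u) (Nat.ble (nat_lit 5) j)) (Nat.ble (nat_lit 2) j)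
noncomputable def chk_t4 (j u : ℕ) : Bool :=
  Bool.rec (motive := fun _ => Bool) (disp_t4 j u) (Nat.ble (Nat.succ (MG u)) A) (Nat.ble A (T_t4 u))
noncomputable def dp_t5_0 (j u : ℕ) : Bool :=
  Bool.rec (motive := fun _ => Bool) (lF [T_t7, T_t5, T_t7, T_t5, T_t7] M (Nat.sub (T_t5 u) (Nat.mod (T_t5 u) M)) (Nat.mod (T_t5 u) M) u) (lF [T_t0, T_w, T_t5, T_t0] M (Nat.sub (T_t5 u) (Nat.mod (T_t5 u) M)) (Nat.mod (T_t5 u) M) u) (Nat.ble (nat_lit 7) j)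
noncomputable def dp_t5_1 (j u : ℕ) : Bool :=
  Bool.rec (motive := fun _ => Bool) (lF [T_t3, T_w, T_t5, T_t3] M (Nat.sub (T_t5 u) (Nat.mod (T_t5 u) M)) (Nat.mod (T_t5 u) M) u) (dp_t5_0 j u) (Nat.ble (nat_lit 6) j)
noncomputable def dp_t5_2 (j u : ℕ) : Bool :=
  Bool.rec (motive := fun _ => Bool) (lF3 T_u0i T_t5 T_u0 M (Nat.sub (T_t5 u) (Nat.mod (T_t5 u) M)) (Nat.mod (T_t5 u) M) u) (dp_t5_1 j u) (Nat.ble (nat_lit 5) j)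
noncomputable def dp_t5_3 (j u : ℕ) : Bool :=
  Bool.rec (motive := fun _ => Bool) (lF3 T_u0 T_t5 T_u0i M (Nat.sub (T_t5 u) (Nat.mod (T_t5 u) M)) (Nat.mod (T_t5 u) M) u) (lF [T_t2, T_w, T_t5, T_t2] M (Nat.sub (T_t5 u) (Nat.mod (T_t5 u) M)) (Nat.mod (T_t5 u) M) u) (Nat.ble (nat_lit 9) j)
noncomputable def dp_t5_4 (j u : ℕ) : Bool :=
  Bool.rec (motive := fun _ => Bool) (lF3 T_u1i T_t5 T_u1 M (Nat.sub (T_t5 u) (Nat.mod (T_t5 u) M)) (Nat.mod (T_t5 u) M) u) (lF [T_t1, T_w, T_t5, T_t1] M (Nat.sub (T_t5 u) (Nat.mod (T_t5 u) M)) (Nat.mod (T_t5 u) M) u) (Nat.ble (nat_lit 11) j)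
noncomputable def dp_t5_5 (j u : ℕ) : Bool :=
  Bool.rec (motive := fun _ => Bool) (dp_t5_3 j u) (dp_t5_4 j u) (Nat.ble (nat_lit 10) j)
noncomputable def dp_t5_6 (j u : ℕ) : Bool :=
  Bool.rec (motive := fun _ => Bool) (lS MG [T_t4, T_t5, T_t4, T_t5, T_t4] M (Nat.sub (T_t5 u) (Nat.mod (T_t5 u) M)) (nat_lit 40) (Nat.mod (T_t5 u) M) u) (lF [T_t6, T_t5, T_t6, T_t5, T_t6] M (Nat.sub (T_t5 u) (Nat.mod (T_t5 u) M)) (Nat.mod (T_t5 u) M) u) (Nat.ble (nat_lit 14) j)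
noncomputable def dp_t5_7 (j u : ℕ) : Bool :=
  Bool.rec (motive := fun _ => Bool) (lF [T_t2, T_t5, T_t2, T_w] M (Nat.sub (T_t5 u) (Nat.mod (T_t5 u) M)) (Nat.mod (T_t5 u) M) u) (dp_t5_6 j u) (Nat.ble (nat_lit 13) j)
noncomputable def dp_t5_8 (j u : ℕ) : Bool :=
  Bool.rec (motive := fun _ => Bool) (lF [T_t4, T_t5, T_t4, T_t5, T_t4] M (Nat.sub (T_t5 u) (Nat.mod (T_t5 u) M)) (Nat.mod (T_t5 u) M) u) (lH [] [] M (Nat.sub (T_t5 u) (Nat.mod (T_t5 u) M)) (Nat.mod (T_t5 u) M) u) (Nat.ble (nat_lit 16) j)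
noncomputable def dp_t5_9 (j u : ℕ) : Bool :=
  Bool.rec (motive := fun _ => Bool) (lS MG [T_t6, T_t5, T_t6, T_t5, T_t6] M (Nat.sub (T_t5 u) (Nat.mod (T_t5 u) M)) (nat_lit 40) (Nat.mod (T_t5 u) M) u) (lS MG [T_t7, T_t5, T_t7, T_t5, T_t7] M (Nat.sub (T_t5 u) (Nat.mod (T_t5 u) M)) (nat_lit 40) (Nat.mod (T_t5 u) M) u) (Nat.ble (nat_lit 18) j)
noncomputable def dp_t5_10 (j u : ℕ) : Bool :=
  Bool.rec (motive := fun _ => Bool) (lF [T_t0, T_t5, T_t0, T_w] M (Nat.sub (T_t5 u) (Nat.mod (T_t5 u) M)) (Nat.mod (T_t5 u) M) u) (lF [T_t1, T_t5, T_t1, T_w] M (Nat.sub (T_t5 u) (Nat.mod (T_t5 u) M)) (Nat.mod (T_t5 u) M) u) (Nat.ble (nat_lit 20) j)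
noncomputable def dp_t5_11 (j u : ℕ) : Bool :=
  Bool.rec (motive := fun _ => Bool) (dp_t5_9 j u) (dp_t5_10 j u) (Nat.ble (nat_lit 19) j)
noncomputable def dp_t5_12 (j u : ℕ) : Bool :=
  Bool.rec (motive := fun _ => Bool) (dp_t5_8 j u) (dp_t5_11 j u) (Nat.ble (nat_lit 17) j)
noncomputable def dp_t5_13 (j u : ℕ) : Bool :=
  Bool.rec (motive := fun _ => Bool) (dp_t5_7 j u) (dp_t5_12 j u) (Nat.ble (nat_lit 15) j)
noncomputable def dp_t5_14 (j u : ℕ) : Bool :=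
  Bool.rec (motive := fun _ => Bool) (dp_t5_5 j u) (dp_t5_13 j u) (Nat.ble (nat_lit 12) j)
noncomputable def dp_t5_15 (j u : ℕ) : Bool :=
  Bool.rec (motive := fun _ => Bool) (dp_t5_2 j u) (dp_t5_14 j u) (Nat.ble (nat_lit 8) j)
noncomputable def dp_t5_16 (j u : ℕ) : Bool :=
  Bool.rec (motive := fun _ => Bool) (Bool.rec (motive := fun _ => Bool) (lF1 T_t5 M (Nat.sub (T_t5 u) (Nat.mod (T_t5 u) M)) (Nat.mod (T_t5 u) M) u) (lS MG [T_t5] M (Nat.sub (T_t5 u) (Nat.mod (T_t5 u) M)) (nat_lit 40) (Nat.mod (T_t5 u) M) u) (Nat.ble (nat_lit 3) j)) (dp_t5_15 j u) (Nat.ble (nat_lit 4) j)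
noncomputable def disp_t5 (j u : ℕ) : Bool :=
  Bool.rec (motive := fun _ => Bool) (Bool.rec (motive := fun _ => Bool) (lDef P (nat_lit 5) (Nat.mod (T_t5 u) M) u) (lDef P (nat_lit 5) u (Nat.mod (T_t5 u) M)) (Nat.ble (nat_lit 1) j)) (dp_t5_16 j u) (Nat.ble (nat_lit 2) j)
noncomputable def chk_t5 (j u : ℕ) : Bool :=
  Bool.rec (motive := fun _ => Bool) (disp_t5 j u) (Nat.ble (Nat.succ (MG u)) A) (Nat.ble A (T_t5 u))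
noncomputable def dp_t6_0 (j u : ℕ) : Bool :=
  Bool.rec (motive := fun _ => Bool) (lF3 T_u0i T_t6 T_u0 M (Nat.sub (T_t6 u) (Nat.mod (T_t6 u) M)) (Nat.mod (T_t6 u) M) u) (lF3 T_u0 T_t6 T_u0i M (Nat.sub (T_t6 u) (Nat.mod (T_t6 u) M)) (Nat.mod (T_t6 u) M) u) (Nat.ble (nat_lit 5) j)
noncomputable def dp_t6_1 (j u : ℕ) : Bool :=
  Bool.rec (motive := fun _ => Bool) (lF [T_t1, T_w, T_t6, T_t1] M (Nat.sub (T_t6 u) (Nat.mod (T_t6 u) M)) (Nat.mod (T_t6 u) M) u) (lF [T_t4, T_w, T_t6, T_t4] M (Nat.sub (T_t6 u) (Nat.mod (T_t6 u) M)) (Nat.mod (T_t6 u) M) u) (Nat.ble (nat_lit 7) j)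
noncomputable def dp_t6_2 (j u : ℕ) : Bool :=
  Bool.rec (motive := fun _ => Bool) (lF [T_t3, T_w, T_t6, T_t3] M (Nat.sub (T_t6 u) (Nat.mod (T_t6 u) M)) (Nat.mod (T_t6 u) M) u) (lF [T_t2, T_w, T_t6, T_t2] M (Nat.sub (T_t6 u) (Nat.mod (T_t6 u) M)) (Nat.mod (T_t6 u) M) u) (Nat.ble (nat_lit 9) j)
noncomputable def dp_t6_3 (j u : ℕ) : Bool :=
  Bool.rec (motive := fun _ => Bool) (lF [T_t7, T_t1, T_t6, T_t7, T_t6, T_t1, T_t7, T_u0i, T_t1] M (Nat.sub (T_t6 u) (Nat.mod (T_t6 u) M)) (Nat.mod (T_t6 u) M) u) (lF [T_t0, T_w, T_t6, T_t0] M (Nat.sub (T_t6 u) (Nat.mod (T_t6 u) M)) (Nat.mod (T_t6 u) M) u) (Nat.ble (nat_lit 12) j)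
noncomputable def dp_t6_4 (j u : ℕ) : Bool :=
  Bool.rec (motive := fun _ => Bool) (lF [T_t4, T_t6, T_t4, T_w] M (Nat.sub (T_t6 u) (Nat.mod (T_t6 u) M)) (Nat.mod (T_t6 u) M) u) (dp_t6_3 j u) (Nat.ble (nat_lit 11) j)
noncomputable def dp_t6_5 (j u : ℕ) : Bool :=
  Bool.rec (motive := fun _ => Bool) (dp_t6_2 j u) (dp_t6_4 j u) (Nat.ble (nat_lit 10) j)
noncomputable def dp_t6_6 (j u : ℕ) : Bool :=
  Bool.rec (motive := fun _ => Bool) (lF [T_t7, T_t6, T_t1, T_t7, T_u0i, T_t1, T_t6, T_t7, T_t1] M (Nat.sub (T_t6 u) (Nat.mod (T_t6 u) M)) (Nat.mod (T_t6 u) M) u) (lS MG [T_t5, T_t6, T_t5, T_t6, T_t5] M (Nat.sub (T_t6 u) (Nat.mod (T_t6 u) M)) (nat_lit 40) (Nat.mod (T_t6 u) M) u) (Nat.ble (nat_lit 14) j)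
noncomputable def dp_t6_7 (j u : ℕ) : Bool :=
  Bool.rec (motive := fun _ => Bool) (lS MG [T_t7, T_t6, T_t1, T_t7, T_u0i, T_t1, T_t6, T_t7, T_t1] M (Nat.sub (T_t6 u) (Nat.mod (T_t6 u) M)) (nat_lit 40) (Nat.mod (T_t6 u) M) u) (lF3 T_u1i T_t6 T_u1 M (Nat.sub (T_t6 u) (Nat.mod (T_t6 u) M)) (Nat.mod (T_t6 u) M) u) (Nat.ble (nat_lit 18) j)
noncomputable def dp_t6_8 (j u : ℕ) : Bool :=
  Bool.rec (motive := fun _ => Bool) (lH [] [] M (Nat.sub (T_t6 u) (Nat.mod (T_t6 u) M)) (Nat.mod (T_t6 u) M) u) (dp_t6_7 j u) (Nat.ble (nat_lit 17) j)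
noncomputable def dp_t6_9 (j u : ℕ) : Bool :=
  Bool.rec (motive := fun _ => Bool) (lS MG [T_u0i, T_t6, T_u0] M (Nat.sub (T_t6 u) (Nat.mod (T_t6 u) M)) (nat_lit 40) (Nat.mod (T_t6 u) M) u) (dp_t6_8 j u) (Nat.ble (nat_lit 16) j)
noncomputable def dp_t6_10 (j u : ℕ) : Bool :=
  Bool.rec (motive := fun _ => Bool) (dp_t6_6 j u) (dp_t6_9 j u) (Nat.ble (nat_lit 15) j)
noncomputable def dp_t6_11 (j u : ℕ) : Bool :=
  Bool.rec (motive := fun _ => Bool) (lF3 T_u1 T_t6 T_u1i M (Nat.sub (T_t6 u) (Nat.mod (T_t6 u) M)) (Nat.mod (T_t6 u) M) u) (lF3 T_s T_t6 T_s M (Nat.sub (T_t6 u) (Nat.mod (T_t6 u) M)) (Nat.mod (T_t6 u) M) u) (Nat.ble (nat_lit 20) j)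
noncomputable def dp_t6_12 (j u : ℕ) : Bool :=
  Bool.rec (motive := fun _ => Bool) (lS MG [T_t7, T_t1, T_t6, T_t7, T_t6, T_t1, T_t7, T_u0i, T_t1] M (Nat.sub (T_t6 u) (Nat.mod (T_t6 u) M)) (nat_lit 40) (Nat.mod (T_t6 u) M) u) (lS MG [T_t1, T_t7, T_t6, T_t1, T_u0, T_t7, T_t1, T_t6, T_t7] M (Nat.sub (T_t6 u) (Nat.mod (T_t6 u) M)) (nat_lit 40) (Nat.mod (T_t6 u) M) u) (Nat.ble (nat_lit 23) j)
noncomputable def dp_t6_13 (j u : ℕ) : Bool :=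
  Bool.rec (motive := fun _ => Bool) (lS MG [T_t0, T_w, T_t6, T_t0] M (Nat.sub (T_t6 u) (Nat.mod (T_t6 u) M)) (nat_lit 40) (Nat.mod (T_t6 u) M) u) (dp_t6_12 j u) (Nat.ble (nat_lit 22) j)
noncomputable def dp_t6_14 (j u : ℕ) : Bool :=
  Bool.rec (motive := fun _ => Bool) (dp_t6_11 j u) (dp_t6_13 j u) (Nat.ble (nat_lit 21) j)
noncomputable def dp_t6_15 (j u : ℕ) : Bool :=
  Bool.rec (motive := fun _ => Bool) (lF [T_t1, T_t7, T_u0i, T_t1, T_t6, T_t7, T_t1, T_t6, T_t7] M (Nat.sub (T_t6 u) (Nat.mod (T_t6 u) M)) (Nat.mod (T_t6 u) M) u) (lF [T_t5, T_t6, T_t5, T_t6, T_t5] M (Nat.sub (T_t6 u) (Nat.mod (T_t6 u) M)) (Nat.mod (T_t6 u) M) u) (Nat.ble (nat_lit 26) j)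
noncomputable def dp_t6_16 (j u : ℕ) : Bool :=
  Bool.rec (motive := fun _ => Bool) (lS MG [T_t1, T_t6, T_t1, T_w] M (Nat.sub (T_t6 u) (Nat.mod (T_t6 u) M)) (nat_lit 40) (Nat.mod (T_t6 u) M) u) (dp_t6_15 j u) (Nat.ble (nat_lit 25) j)
noncomputable def dp_t6_17 (j u : ℕ) : Bool :=
  Bool.rec (motive := fun _ => Bool) (lF [T_t2, T_t6, T_t2, T_w] M (Nat.sub (T_t6 u) (Nat.mod (T_t6 u) M)) (Nat.mod (T_t6 u) M) u) (lS MG [T_t3, T_w, T_t6, T_t3] M (Nat.sub (T_t6 u) (Nat.mod (T_t6 u) M)) (nat_lit 40) (Nat.mod (T_t6 u) M) u) (Nat.ble (nat_lit 29) j)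
noncomputable def dp_t6_18 (j u : ℕ) : Bool :=
  Bool.rec (motive := fun _ => Bool) (lF [T_t1, T_t6, T_t1, T_w] M (Nat.sub (T_t6 u) (Nat.mod (T_t6 u) M)) (Nat.mod (T_t6 u) M) u) (dp_t6_17 j u) (Nat.ble (nat_lit 28) j)
noncomputable def dp_t6_19 (j u : ℕ) : Bool :=
  Bool.rec (motive := fun _ => Bool) (dp_t6_16 j u) (dp_t6_18 j u) (Nat.ble (nat_lit 27) j)
noncomputable def dp_t6_20 (j u : ℕ) : Bool :=
  Bool.rec (motive := fun _ => Bool) (dp_t6_14 j u) (dp_t6_19 j u) (Nat.ble (nat_lit 24) j)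
noncomputable def dp_t6_21 (j u : ℕ) : Bool :=
  Bool.rec (motive := fun _ => Bool) (dp_t6_10 j u) (dp_t6_20 j u) (Nat.ble (nat_lit 19) j)
noncomputable def dp_t6_22 (j u : ℕ) : Bool :=
  Bool.rec (motive := fun _ => Bool) (dp_t6_5 j u) (dp_t6_21 j u) (Nat.ble (nat_lit 13) j)
noncomputable def dp_t6_23 (j u : ℕ) : Bool :=
  Bool.rec (motive := fun _ => Bool) (Bool.rec (motive := fun _ => Bool) (dp_t6_0 j u) (dp_t6_1 j u) (Nat.ble (nat_lit 6) j)) (dp_t6_22 j u) (Nat.ble (nat_lit 8) j)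
noncomputable def disp_t6 (j u : ℕ) : Bool :=
  Bool.rec (motive := fun _ => Bool) (Bool.rec (motive := fun _ => Bool) (lDef P (nat_lit 6) (Nat.mod (T_t6 u) M) u) (lDef P (nat_lit 6) u (Nat.mod (T_t6 u) M)) (Nat.ble (nat_lit 1) j)) (Bool.rec (motive := fun _ => Bool) (Bool.rec (motive := fun _ => Bool) (lF1 T_t6 M (Nat.sub (T_t6 u) (Nat.mod (T_t6 u) M)) (Nat.mod (T_t6 u) M) u) (lS MG [T_t6] M (Nat.sub (T_t6 u) (Nat.mod (T_t6 u) M)) (nat_lit 40) (Nat.mod (T_t6 u) M) u) (Nat.ble (nat_lit 3) j)) (dp_t6_23 j u) (Nat.ble (nat_lit 4) j)) (Nat.ble (nat_lit 2) j)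
noncomputable def chk_t6 (j u : ℕ) : Bool :=
  Bool.rec (motive := fun _ => Bool) (disp_t6 j u) (Nat.ble (Nat.succ (MG u)) A) (Nat.ble A (T_t6 u))
noncomputable def dp_t7_0 (j u : ℕ) : Bool :=
  Bool.rec (motive := fun _ => Bool) (lF [T_t5, T_t7, T_t5, T_t7, T_t5] M (Nat.sub (T_t7 u) (Nat.mod (T_t7 u) M)) (Nat.mod (T_t7 u) M) u) (lF3 T_u0 T_t7 T_u0i M (Nat.sub (T_t7 u) (Nat.mod (T_t7 u) M)) (Nat.mod (T_t7 u) M) u) (Nat.ble (nat_lit 6) j)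
noncomputable def dp_t7_1 (j u : ℕ) : Bool :=
  Bool.rec (motive := fun _ => Bool) (lF [T_t6, T_t1, T_t7, T_u0i, T_t1, T_t6, T_t7, T_t1, T_t6] M (Nat.sub (T_t7 u) (Nat.mod (T_t7 u) M)) (Nat.mod (T_t7 u) M) u) (lS MG [T_u0i, T_t1, T_t6, T_t7, T_t1, T_t6, T_t7, T_t6, T_t1] M (Nat.sub (T_t7 u) (Nat.mod (T_t7 u) M)) (nat_lit 40) (Nat.mod (T_t7 u) M) u) (Nat.ble (nat_lit 9) j)
noncomputable def dp_t7_2 (j u : ℕ) : Bool :=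
  Bool.rec (motive := fun _ => Bool) (lF [T_t0, T_t1, T_t2, T_t0, T_t7, T_u1i, T_t0, T_t1, T_t0, T_t4] M (Nat.sub (T_t7 u) (Nat.mod (T_t7 u) M)) (Nat.mod (T_t7 u) M) u) (dp_t7_1 j u) (Nat.ble (nat_lit 8) j)
noncomputable def dp_t7_3 (j u : ℕ) : Bool :=
  Bool.rec (motive := fun _ => Bool) (lF3 T_u1i T_t7 T_u1 M (Nat.sub (T_t7 u) (Nat.mod (T_t7 u) M)) (Nat.mod (T_t7 u) M) u) (lS MG [T_u0, T_t7, T_u0i] M (Nat.sub (T_t7 u) (Nat.mod (T_t7 u) M)) (nat_lit 40) (Nat.mod (T_t7 u) M) u) (Nat.ble (nat_lit 11) j)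
noncomputable def dp_t7_4 (j u : ℕ) : Bool :=
  Bool.rec (motive := fun _ => Bool) (lS MG [T_t3, T_s, T_t1, T_t2, T_t7, T_t2, T_t1, T_t3, T_t7, T_t2] M (Nat.sub (T_t7 u) (Nat.mod (T_t7 u) M)) (nat_lit 40) (Nat.mod (T_t7 u) M) u) (lF [T_t4, T_t0, T_t1, T_t0, T_u1, T_t7, T_t0, T_t2, T_t1, T_t0] M (Nat.sub (T_t7 u) (Nat.mod (T_t7 u) M)) (Nat.mod (T_t7 u) M) u) (Nat.ble (nat_lit 13) j)
noncomputable def dp_t7_5 (j u : ℕ) : Bool :=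
  Bool.rec (motive := fun _ => Bool) (dp_t7_3 j u) (dp_t7_4 j u) (Nat.ble (nat_lit 12) j)
noncomputable def dp_t7_6 (j u : ℕ) : Bool :=
  Bool.rec (motive := fun _ => Bool) (dp_t7_2 j u) (dp_t7_5 j u) (Nat.ble (nat_lit 10) j)
noncomputable def dp_t7_7 (j u : ℕ) : Bool :=
  Bool.rec (motive := fun _ => Bool) (lS MG [T_t0, T_t1, T_t2, T_t0, T_t7, T_u1i, T_t0, T_t1, T_t0, T_t4] M (Nat.sub (T_t7 u) (Nat.mod (T_t7 u) M)) (nat_lit 40) (Nat.mod (T_t7 u) M) u) (lF [T_t2, T_t1, T_t3, T_t7, T_t2, T_t7, T_t3, T_s, T_t1, T_t2] M (Nat.sub (T_t7 u) (Nat.mod (T_t7 u) M)) (Nat.mod (T_t7 u) M) u) (Nat.ble (nat_lit 15) j)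
noncomputable def dp_t7_8 (j u : ℕ) : Bool :=
  Bool.rec (motive := fun _ => Bool) (lF [T_u0i, T_t1, T_t6, T_t7, T_t1, T_t6, T_t7, T_t6, T_t1] M (Nat.sub (T_t7 u) (Nat.mod (T_t7 u) M)) (Nat.mod (T_t7 u) M) u) (lF [T_t1, T_t6, T_t7, T_t6, T_t1, T_t7, T_u0i, T_t1, T_t6] M (Nat.sub (T_t7 u) (Nat.mod (T_t7 u) M)) (Nat.mod (T_t7 u) M) u) (Nat.ble (nat_lit 17) j)
noncomputable def dp_t7_9 (j u : ℕ) : Bool :=
  Bool.rec (motive := fun _ => Bool) (dp_t7_7 j u) (dp_t7_8 j u) (Nat.ble (nat_lit 16) j)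
noncomputable def dp_t7_10 (j u : ℕ) : Bool :=
  Bool.rec (motive := fun _ => Bool) (lF3 T_u1 T_t7 T_u1i M (Nat.sub (T_t7 u) (Nat.mod (T_t7 u) M)) (Nat.mod (T_t7 u) M) u) (lF3 T_s T_t7 T_s M (Nat.sub (T_t7 u) (Nat.mod (T_t7 u) M)) (Nat.mod (T_t7 u) M) u) (Nat.ble (nat_lit 20) j)
noncomputable def dp_t7_11 (j u : ℕ) : Bool :=
  Bool.rec (motive := fun _ => Bool) (lF [T_t3, T_s, T_t1, T_t2, T_t7, T_t2, T_t1, T_t3, T_t7, T_t2] M (Nat.sub (T_t7 u) (Nat.mod (T_t7 u) M)) (Nat.mod (T_t7 u) M) u) (dp_t7_10 j u) (Nat.ble (nat_lit 19) j)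
noncomputable def dp_t7_12 (j u : ℕ) : Bool :=
  Bool.rec (motive := fun _ => Bool) (lS MG [T_t2, T_t7, T_t3, T_s, T_t1, T_t2, T_t7, T_t2, T_t1, T_t3] M (Nat.sub (T_t7 u) (Nat.mod (T_t7 u) M)) (nat_lit 40) (Nat.mod (T_t7 u) M) u) (lS MG [T_t1, T_t6, T_t7, T_t6, T_t1, T_t7, T_u0i, T_t1, T_t6] M (Nat.sub (T_t7 u) (Nat.mod (T_t7 u) M)) (nat_lit 40) (Nat.mod (T_t7 u) M) u) (Nat.ble (nat_lit 22) j)
noncomputable def dp_t7_13 (j u : ℕ) : Bool :=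
  Bool.rec (motive := fun _ => Bool) (lS MG [T_t2, T_t1, T_t3, T_t7, T_t2, T_t7, T_t3, T_s, T_t1, T_t2] M (Nat.sub (T_t7 u) (Nat.mod (T_t7 u) M)) (nat_lit 40) (Nat.mod (T_t7 u) M) u) (lS MG [T_t6, T_t1, T_t7, T_u0i, T_t1, T_t6, T_t7, T_t1, T_t6] M (Nat.sub (T_t7 u) (Nat.mod (T_t7 u) M)) (nat_lit 40) (Nat.mod (T_t7 u) M) u) (Nat.ble (nat_lit 25) j)
noncomputable def dp_t7_14 (j u : ℕ) : Bool :=
  Bool.rec (motive := fun _ => Bool) (lS MG [T_t5, T_t7, T_t5, T_t7, T_t5] M (Nat.sub (T_t7 u) (Nat.mod (T_t7 u) M)) (nat_lit 40) (Nat.mod (T_t7 u) M) u) (dp_t7_13 j u) (Nat.ble (nat_lit 24) j)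
noncomputable def dp_t7_15 (j u : ℕ) : Bool :=
  Bool.rec (motive := fun _ => Bool) (dp_t7_12 j u) (dp_t7_14 j u) (Nat.ble (nat_lit 23) j)
noncomputable def dp_t7_16 (j u : ℕ) : Bool :=
  Bool.rec (motive := fun _ => Bool) (dp_t7_11 j u) (dp_t7_15 j u) (Nat.ble (nat_lit 21) j)
noncomputable def dp_t7_17 (j u : ℕ) : Bool :=
  Bool.rec (motive := fun _ => Bool) (dp_t7_9 j u) (dp_t7_16 j u) (Nat.ble (nat_lit 18) j)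
noncomputable def dp_t7_18 (j u : ℕ) : Bool :=
  Bool.rec (motive := fun _ => Bool) (dp_t7_6 j u) (dp_t7_17 j u) (Nat.ble (nat_lit 14) j)
noncomputable def dp_t7_19 (j u : ℕ) : Bool :=
  Bool.rec (motive := fun _ => Bool) (Bool.rec (motive := fun _ => Bool) (lF3 T_u0i T_t7 T_u0 M (Nat.sub (T_t7 u) (Nat.mod (T_t7 u) M)) (Nat.mod (T_t7 u) M) u) (dp_t7_0 j u) (Nat.ble (nat_lit 5) j)) (dp_t7_18 j u) (Nat.ble (nat_lit 7) j)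
noncomputable def disp_t7 (j u : ℕ) : Bool :=
  Bool.rec (motive := fun _ => Bool) (Bool.rec (motive := fun _ => Bool) (lDef P (nat_lit 7) (Nat.mod (T_t7 u) M) u) (lDef P (nat_lit 7) u (Nat.mod (T_t7 u) M)) (Nat.ble (nat_lit 1) j)) (Bool.rec (motive := fun _ => Bool) (Bool.rec (motive := fun _ => Bool) (lF1 T_t7 M (Nat.sub (T_t7 u) (Nat.mod (T_t7 u) M)) (Nat.mod (T_t7 u) M) u) (lS MG [T_t7] M (Nat.sub (T_t7 u) (Nat.mod (T_t7 u) M)) (nat_lit 40) (Nat.mod (T_t7 u) M) u) (Nat.ble (nat_lit 3) j)) (dp_t7_19 j u) (Nat.ble (nat_lit 4) j)) (Nat.ble (nat_lit 2) j)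
noncomputable def chk_t7 (j u : ℕ) : Bool :=
  Bool.rec (motive := fun _ => Bool) (disp_t7 j u) (Nat.ble (Nat.succ (MG u)) A) (Nat.ble A (T_t7 u))
noncomputable def dp_w_0 (j u : ℕ) : Bool :=
  Bool.rec (motive := fun _ => Bool) (lF3 T_t0 T_w T_t0 M (Nat.sub (T_w u) (Nat.mod (T_w u) M)) (Nat.mod (T_w u) M) u) (lF [T_t0, T_t2, T_t0, T_t2] M (Nat.sub (T_w u) (Nat.mod (T_w u) M)) (Nat.mod (T_w u) M) u) (Nat.ble (nat_lit 9) j)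
noncomputable def dp_w_1 (j u : ℕ) : Bool :=
  Bool.rec (motive := fun _ => Bool) (lF3 T_t2 T_w T_t2 M (Nat.sub (T_w u) (Nat.mod (T_w u) M)) (Nat.mod (T_w u) M) u) (dp_w_0 j u) (Nat.ble (nat_lit 8) j)
noncomputable def disp_w (j u : ℕ) : Bool :=
  Bool.rec (motive := fun _ => Bool) (Bool.rec (motive := fun _ => Bool) (lF3 T_t5 T_w T_t5 M (Nat.sub (T_w u) (Nat.mod (T_w u) M)) (Nat.mod (T_w u) M) u) (Bool.rec (motive := fun _ => Bool) (lF3 T_t6 T_w T_t6 M (Nat.sub (T_w u) (Nat.mod (T_w u) M)) (Nat.mod (T_w u) M) u) (lF3 T_t7 T_w T_t7 M (Nat.sub (T_w u) (Nat.mod (T_w u) M)) (Nat.mod (T_w u) M) u) (Nat.ble (nat_lit 2) j)) (Nat.ble (nat_lit 1) j)) (Bool.rec (motive := fun _ => Bool) (Bool.rec (motive := fun _ => Bool) (lF3 T_u0i T_w T_u0 M (Nat.sub (T_w u) (Nat.mod (T_w u) M)) (Nat.mod (T_w u) M) u) (lF3 T_t3 T_w T_t3 M (Nat.sub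 (T_w u) (Nat.mod (T_w u) M)) (Nat.mod (T_w u) M) u) (Nat.ble (nat_lit 4) j)) (Bool.rec (motive := fun _ => Bool) (Bool.rec (motive := fun _ => Bool) (lF3 T_t1 T_w T_t1 M (Nat.sub (T_w u) (Nat.mod (T_w u) M)) (Nat.mod (T_w u) M) u) (lF3 T_t4 T_w T_t4 M (Nat.sub (T_w u) (Nat.mod (T_w u) M)) (Nat.mod (T_w u) M) u) (Nat.ble (nat_lit 6) j)) (dp_w_1 j u) (Nat.ble (nat_lit 7) j)) (Nat.ble (nat_lit 5) j)) (Nat.ble (nat_lit 3) j)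
noncomputable def chk_w (j u : ℕ) : Bool :=
  Bool.rec (motive := fun _ => Bool) (disp_w j u) (Nat.ble (Nat.succ (MG u)) A) (Nat.ble A (T_w u))
noncomputable def dp_v_0 (j u : ℕ) : Bool :=
  Bool.rec (motive := fun _ => Bool) (lF3 T_t5 T_vi T_t5 M (Nat.sub (T_v u) (Nat.mod (T_v u) M)) (Nat.mod (T_v u) M) u) (lF3 T_t6 T_vi T_t6 M (Nat.sub (T_v u) (Nat.mod (T_v u) M)) (Nat.mod (T_v u) M) u) (Nat.ble (nat_lit 4) j)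
noncomputable def dp_v_1 (j u : ℕ) : Bool :=
  Bool.rec (motive := fun _ => Bool) (lF3 T_t4 T_vi T_t4 M (Nat.sub (T_v u) (Nat.mod (T_v u) M)) (Nat.mod (T_v u) M) u) (lF3 T_t1 T_vi T_t1 M (Nat.sub (T_v u) (Nat.mod (T_v u) M)) (Nat.mod (T_v u) M) u) (Nat.ble (nat_lit 6) j)
noncomputable def dp_v_2 (j u : ℕ) : Bool :=
  Bool.rec (motive := fun _ => Bool) (lF3 T_t2 T_vi T_t2 M (Nat.sub (T_v u) (Nat.mod (T_v u) M)) (Nat.mod (T_v u) M) u) (lF3 T_t3 T_vi T_t3 M (Nat.sub (T_v u) (Nat.mod (T_v u) M)) (Nat.mod (T_v u) M) u) (Nat.ble (nat_lit 8) j)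
noncomputable def dp_v_3 (j u : ℕ) : Bool :=
  Bool.rec (motive := fun _ => Bool) (lS MG [T_t4, T_vi, T_t4] M (Nat.sub (T_v u) (Nat.mod (T_v u) M)) (nat_lit 40) (Nat.mod (T_v u) M) u) (lS MG [T_t7, T_vi, T_t7] M (Nat.sub (T_v u) (Nat.mod (T_v u) M)) (nat_lit 40) (Nat.mod (T_v u) M) u) (Nat.ble (nat_lit 10) j)
noncomputable def dp_v_4 (j u : ℕ) : Bool :=
  Bool.rec (motive := fun _ => Bool) (lS MG [T_t1, T_vi, T_t1] M (Nat.sub (T_v u) (Nat.mod (T_v u) M)) (nat_lit 40) (Nat.mod (T_v u) M) u) (lS MG [T_t6, T_vi, T_t6] M (Nat.sub (T_v u) (Nat.mod (T_v u) M)) (nat_lit 40) (Nat.mod (T_v u) M) u) (Nat.ble (nat_lit 12) j)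
noncomputable def dp_v_5 (j u : ℕ) : Bool :=
  Bool.rec (motive := fun _ => Bool) (lS MG [T_t5, T_vi, T_t5] M (Nat.sub (T_v u) (Nat.mod (T_v u) M)) (nat_lit 40) (Nat.mod (T_v u) M) u) (lS MG [T_t0, T_vi, T_t0] M (Nat.sub (T_v u) (Nat.mod (T_v u) M)) (nat_lit 40) (Nat.mod (T_v u) M) u) (Nat.ble (nat_lit 15) j)
noncomputable def dp_v_6 (j u : ℕ) : Bool :=
  Bool.rec (motive := fun _ => Bool) (lS MG [T_u0, T_vi, T_u0i] M (Nat.sub (T_v u) (Nat.mod (T_v u) M)) (nat_lit 40) (Nat.mod (T_v u) M) u) (dp_v_5 j u) (Nat.ble (nat_lit 14) j)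
noncomputable def dp_v_7 (j u : ℕ) : Bool :=
  Bool.rec (motive := fun _ => Bool) (dp_v_4 j u) (dp_v_6 j u) (Nat.ble (nat_lit 13) j)
noncomputable def dp_v_8 (j u : ℕ) : Bool :=
  Bool.rec (motive := fun _ => Bool) (dp_v_3 j u) (dp_v_7 j u) (Nat.ble (nat_lit 11) j)
noncomputable def dp_v_9 (j u : ℕ) : Bool :=
  Bool.rec (motive := fun _ => Bool) (dp_v_2 j u) (dp_v_8 j u) (Nat.ble (nat_lit 9) j)
noncomputable def dp_v_10 (j u : ℕ) : Bool :=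
  Bool.rec (motive := fun _ => Bool) (dp_v_1 j u) (dp_v_9 j u) (Nat.ble (nat_lit 7) j)
noncomputable def disp_v (j u : ℕ) : Bool :=
  Bool.rec (motive := fun _ => Bool) (lF1 T_vi M (Nat.sub (T_v u) (Nat.mod (T_v u) M)) (Nat.mod (T_v u) M) u) (Bool.rec (motive := fun _ => Bool) (Bool.rec (motive := fun _ => Bool) (Bool.rec (motive := fun _ => Bool) (lF3 T_t7 T_vi T_t7 M (Nat.sub (T_v u) (Nat.mod (T_v u) M)) (Nat.mod (T_v u) M) u) (lF3 T_t0 T_vi T_t0 M (Nat.sub (T_v u) (Nat.mod (T_v u) M)) (Nat.mod (T_v u) M) u) (Nat.ble (nat_lit 2) j)) (dp_v_0 j u) (Nat.ble (nat_lit 3) j)) (dp_v_10 j u) (Nat.ble (nat_lit 5) j)) (Nat.ble (nat_lit 1) j)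
noncomputable def chk_v (j u : ℕ) : Bool :=
  Bool.rec (motive := fun _ => Bool) (disp_v j u) (Nat.ble (Nat.succ (MG u)) A) (Nat.ble A (T_v u))
noncomputable def dp_vi_0 (j u : ℕ) : Bool :=
  Bool.rec (motive := fun _ => Bool) (lF3 T_t4 T_v T_t4 M (Nat.sub (T_vi u) (Nat.mod (T_vi u) M)) (Nat.mod (T_vi u) M) u) (lF3 T_t0 T_v T_t0 M (Nat.sub (T_vi u) (Nat.mod (T_vi u) M)) (Nat.mod (T_vi u) M) u) (Nat.ble (nat_lit 4) j)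
noncomputable def dp_vi_1 (j u : ℕ) : Bool :=
  Bool.rec (motive := fun _ => Bool) (lF3 T_t1 T_v T_t1 M (Nat.sub (T_vi u) (Nat.mod (T_vi u) M)) (Nat.mod (T_vi u) M) u) (lS MG [T_t7, T_v, T_t7] M (Nat.sub (T_vi u) (Nat.mod (T_vi u) M)) (nat_lit 40) (Nat.mod (T_vi u) M) u) (Nat.ble (nat_lit 7) j)
noncomputable def dp_vi_2 (j u : ℕ) : Bool :=
  Bool.rec (motive := fun _ => Bool) (lF3 T_t2 T_v T_t2 M (Nat.sub (T_vi u) (Nat.mod (T_vi u) M)) (Nat.mod (T_vi u) M) u) (lF3 T_t3 T_v T_t3 M (Nat.sub (T_vi u) (Nat.mod (T_vi u) M)) (Nat.mod (T_vi u) M) u) (Nat.ble (nat_lit 9) j)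
noncomputable def dp_vi_3 (j u : ℕ) : Bool :=
  Bool.rec (motive := fun _ => Bool) (lS MG [T_t4, T_v, T_t4] M (Nat.sub (T_vi u) (Nat.mod (T_vi u) M)) (nat_lit 40) (Nat.mod (T_vi u) M) u) (lS MG [T_t0, T_v, T_t0] M (Nat.sub (T_vi u) (Nat.mod (T_vi u) M)) (nat_lit 40) (Nat.mod (T_vi u) M) u) (Nat.ble (nat_lit 11) j)
noncomputable def dp_vi_4 (j u : ℕ) : Bool :=
  Bool.rec (motive := fun _ => Bool) (lS MG [T_t2, T_v, T_t2] M (Nat.sub (T_vi u) (Nat.mod (T_vi u) M)) (nat_lit 40) (Nat.mod (T_vi u) M) u) (lF [T_t0, T_t1, T_t2, T_t3, T_t4, T_t5, T_t6, T_t0, T_t1, T_t2, T_t3, T_t4, T_t5, T_t6, T_t0, T_t1, T_t2, T_t3, T_t4, T_t5, T_t6, T_t0, T_t1, T_t2, T_t3, T_t4, T_t5, T_t6, T_t0, T_t1, T_t2, T_t3, T_t4, T_t5, T_t6, T_t0, T_t1, T_t2, T_t3, T_t4, T_t5, T_t6, T_t0, T_t1, T_t2, T_t3, T_t4, T_t5, T_t6, T_t0, T_t1, T_t2, T_t3, T_t4,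 T_t5, T_t6, T_t0, T_t1, T_t2, T_t3, T_t4, T_t5, T_t6] M (Nat.sub (T_vi u) (Nat.mod (T_vi u) M)) (Nat.mod (T_vi u) M) u) (Nat.ble (nat_lit 13) j)
noncomputable def dp_vi_5 (j u : ℕ) : Bool :=
  Bool.rec (motive := fun _ => Bool) (lS MG [T_t5, T_v, T_t5] M (Nat.sub (T_vi u) (Nat.mod (T_vi u) M)) (nat_lit 40) (Nat.mod (T_vi u) M) u) (lS MG [T_t3, T_v, T_t3] M (Nat.sub (T_vi u) (Nat.mod (T_vi u) M)) (nat_lit 40) (Nat.mod (T_vi u) M) u) (Nat.ble (nat_lit 15) j)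
noncomputable def dp_vi_6 (j u : ℕ) : Bool :=
  Bool.rec (motive := fun _ => Bool) (lS MG [T_t1, T_v, T_t1] M (Nat.sub (T_vi u) (Nat.mod (T_vi u) M)) (nat_lit 40) (Nat.mod (T_vi u) M) u) (lS MG [T_t6, T_v, T_t6] M (Nat.sub (T_vi u) (Nat.mod (T_vi u) M)) (nat_lit 40) (Nat.mod (T_vi u) M) u) (Nat.ble (nat_lit 17) j)
noncomputable def dp_vi_7 (j u : ℕ) : Bool :=
  Bool.rec (motive := fun _ => Bool) (dp_vi_5 j u) (dp_vi_6 j u) (Nat.ble (nat_lit 16) j)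
noncomputable def dp_vi_8 (j u : ℕ) : Bool :=
  Bool.rec (motive := fun _ => Bool) (dp_vi_4 j u) (dp_vi_7 j u) (Nat.ble (nat_lit 14) j)
noncomputable def dp_vi_9 (j u : ℕ) : Bool :=
  Bool.rec (motive := fun _ => Bool) (dp_vi_3 j u) (dp_vi_8 j u) (Nat.ble (nat_lit 12) j)
noncomputable def dp_vi_10 (j u : ℕ) : Bool :=
  Bool.rec (motive := fun _ => Bool) (dp_vi_2 j u) (dp_vi_9 j u) (Nat.ble (nat_lit 10) j)
noncomputable def dp_vi_11 (j u : ℕ) : Bool :=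
  Bool.rec (motive := fun _ => Bool) (Bool.rec (motive := fun _ => Bool) (lF3 T_t6 T_v T_t6 M (Nat.sub (T_vi u) (Nat.mod (T_vi u) M)) (Nat.mod (T_vi u) M) u) (dp_vi_1 j u) (Nat.ble (nat_lit 6) j)) (dp_vi_10 j u) (Nat.ble (nat_lit 8) j)
noncomputable def disp_vi (j u : ℕ) : Bool :=
  Bool.rec (motive := fun _ => Bool) (lF1 T_v M (Nat.sub (T_vi u) (Nat.mod (T_vi u) M)) (Nat.mod (T_vi u) M) u) (Bool.rec (motive := fun _ => Bool) (Bool.rec (motive := fun _ => Bool) (Bool.rec (motive := fun _ => Bool) (lF3 T_t5 T_v T_t5 M (Nat.sub (T_vi u) (Nat.mod (T_vi u) M)) (Nat.mod (T_vi u) M) u) (lF3 T_t7 T_v T_t7 M (Nat.sub (T_vi u) (Nat.mod (T_vi u) M)) (Nat.mod (T_vi u) M) u) (Nat.ble (nat_lit 2) j)) (dp_vi_0 j u) (Nat.ble (nat_lit 3) j)) (dp_vi_11 j u) (Nat.ble (nat_lit 5) j)) (Nat.ble (nat_lit 1) j)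
noncomputable def chk_vi (j u : ℕ) : Bool :=
  Bool.rec (motive := fun _ => Bool) (disp_vi j u) (Nat.ble (Nat.succ (MG u)) A) (Nat.ble A (T_vi u))
noncomputable def dp_u0_0 (j u : ℕ) : Bool :=
  Bool.rec (motive := fun _ => Bool) (lF3 T_t3 T_u0i T_t3 M (Nat.sub (T_u0 u) (Nat.mod (T_u0 u) M)) (Nat.mod (T_u0 u) M) u) (lF3 T_t5 T_u0i T_t5 M (Nat.sub (T_u0 u) (Nat.mod (T_u0 u) M)) (Nat.mod (T_u0 u) M) u) (Nat.ble (nat_lit 5) j)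
noncomputable def dp_u0_1 (j u : ℕ) : Bool :=
  Bool.rec (motive := fun _ => Bool) (lF3 T_t4 T_u0i T_t4 M (Nat.sub (T_u0 u) (Nat.mod (T_u0 u) M)) (Nat.mod (T_u0 u) M) u) (lF3 T_t1 T_u0i T_t1 M (Nat.sub (T_u0 u) (Nat.mod (T_u0 u) M)) (Nat.mod (T_u0 u) M) u) (Nat.ble (nat_lit 8) j)
noncomputable def dp_u0_2 (j u : ℕ) : Bool :=
  Bool.rec (motive := fun _ => Bool) (lS MG [T_u0i] M (Nat.sub (T_u0 u) (Nat.mod (T_u0 u) M)) (nat_lit 40) (Nat.mod (T_u0 u) M) u) (dp_u0_1 j u) (Nat.ble (nat_lit 7) j)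
noncomputable def dp_u0_3 (j u : ℕ) : Bool :=
  Bool.rec (motive := fun _ => Bool) (lF3 T_t0 T_u0i T_t0 M (Nat.sub (T_u0 u) (Nat.mod (T_u0 u) M)) (Nat.mod (T_u0 u) M) u) (lF3 T_t2 T_u0i T_t2 M (Nat.sub (T_u0 u) (Nat.mod (T_u0 u) M)) (Nat.mod (T_u0 u) M) u) (Nat.ble (nat_lit 10) j)
noncomputable def dp_u0_4 (j u : ℕ) : Bool :=
  Bool.rec (motive := fun _ => Bool) (lS MG [T_t4, T_u0i, T_t4] M (Nat.sub (T_u0 u) (Nat.mod (T_u0 u) M)) (nat_lit 40) (Nat.mod (T_u0 u) M) u) (lF [T_t7, T_t1, T_t6, T_t7, T_t6, T_t1, T_t7, T_t6, T_t1] M (Nat.sub (T_u0 u) (Nat.mod (T_u0 u) M)) (Nat.mod (T_u0 u) M) u) (Nat.ble (nat_lit 15) j)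
noncomputable def dp_u0_5 (j u : ℕ) : Bool :=
  Bool.rec (motive := fun _ => Bool) (lS MG [T_t3, T_u0i, T_t3] M (Nat.sub (T_u0 u) (Nat.mod (T_u0 u) M)) (nat_lit 40) (Nat.mod (T_u0 u) M) u) (dp_u0_4 j u) (Nat.ble (nat_lit 14) j)
noncomputable def dp_u0_6 (j u : ℕ) : Bool :=
  Bool.rec (motive := fun _ => Bool) (lS MG [T_t5, T_u0i, T_t5] M (Nat.sub (T_u0 u) (Nat.mod (T_u0 u) M)) (nat_lit 40) (Nat.mod (T_u0 u) M) u) (dp_u0_5 j u) (Nat.ble (nat_lit 13) j)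
noncomputable def dp_u0_7 (j u : ℕ) : Bool :=
  Bool.rec (motive := fun _ => Bool) (lDef P (nat_lit 12) u (Nat.mod (T_u0 u) M)) (dp_u0_6 j u) (Nat.ble (nat_lit 12) j)
noncomputable def dp_u0_8 (j u : ℕ) : Bool :=
  Bool.rec (motive := fun _ => Bool) (dp_u0_3 j u) (dp_u0_7 j u) (Nat.ble (nat_lit 11) j)
noncomputable def dp_u0_9 (j u : ℕ) : Bool :=
  Bool.rec (motive := fun _ => Bool) (dp_u0_2 j u) (dp_u0_8 j u) (Nat.ble (nat_lit 9) j)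
noncomputable def dp_u0_10 (j u : ℕ) : Bool :=
  Bool.rec (motive := fun _ => Bool) (Bool.rec (motive := fun _ => Bool) (Bool.rec (motive := fun _ => Bool) (lF3 T_t7 T_u0i T_t7 M (Nat.sub (T_u0 u) (Nat.mod (T_u0 u) M)) (Nat.mod (T_u0 u) M) u) (lF3 T_t6 T_u0i T_t6 M (Nat.sub (T_u0 u) (Nat.mod (T_u0 u) M)) (Nat.mod (T_u0 u) M) u) (Nat.ble (nat_lit 3) j)) (dp_u0_0 j u) (Nat.ble (nat_lit 4) j)) (dp_u0_9 j u) (Nat.ble (nat_lit 6) j)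
noncomputable def disp_u0 (j u : ℕ) : Bool :=
  Bool.rec (motive := fun _ => Bool) (Bool.rec (motive := fun _ => Bool) (lF1 T_u0i M (Nat.sub (T_u0 u) (Nat.mod (T_u0 u) M)) (Nat.mod (T_u0 u) M) u) (lDef P (nat_lit 11) (Nat.mod (T_u0 u) M) u) (Nat.ble (nat_lit 1) j)) (dp_u0_10 j u) (Nat.ble (nat_lit 2) j)
noncomputable def chk_u0 (j u : ℕ) : Bool :=
  Bool.rec (motive := fun _ => Bool) (disp_u0 j u) (Nat.ble (Nat.succ (MG u)) A) (Nat.ble A (T_u0 u))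
noncomputable def dp_u0i_0 (j u : ℕ) : Bool :=
  Bool.rec (motive := fun _ => Bool) (lF3 T_t5 T_u0 T_t5 M (Nat.sub (T_u0i u) (Nat.mod (T_u0i u) M)) (Nat.mod (T_u0i u) M) u) (lF3 T_t6 T_u0 T_t6 M (Nat.sub (T_u0i u) (Nat.mod (T_u0i u) M)) (Nat.mod (T_u0i u) M) u) (Nat.ble (nat_lit 5) j)
noncomputable def dp_u0i_1 (j u : ℕ) : Bool :=
  Bool.rec (motive := fun _ => Bool) (lF3 T_t1 T_u0 T_t1 M (Nat.sub (T_u0i u) (Nat.mod (T_u0i u) M)) (Nat.mod (T_u0i u) M) u) (lF3 T_t0 T_u0 T_t0 M (Nat.sub (T_u0i u) (Nat.mod (T_u0i u) M)) (Nat.mod (T_u0i u) M) u) (Nat.ble (nat_lit 8) j)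
noncomputable def dp_u0i_2 (j u : ℕ) : Bool :=
  Bool.rec (motive := fun _ => Bool) (lS MG [T_u0] M (Nat.sub (T_u0i u) (Nat.mod (T_u0i u) M)) (nat_lit 40) (Nat.mod (T_u0i u) M) u) (dp_u0i_1 j u) (Nat.ble (nat_lit 7) j)
noncomputable def dp_u0i_3 (j u : ℕ) : Bool :=
  Bool.rec (motive := fun _ => Bool) (lF3 T_t4 T_u0 T_t4 M (Nat.sub (T_u0i u) (Nat.mod (T_u0i u) M)) (Nat.mod (T_u0i u) M) u) (lDef P (nat_lit 12) (Nat.mod (T_u0i u) M) u) (Nat.ble (nat_lit 11) j)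
noncomputable def dp_u0i_4 (j u : ℕ) : Bool :=
  Bool.rec (motive := fun _ => Bool) (lF3 T_t2 T_u0 T_t2 M (Nat.sub (T_u0i u) (Nat.mod (T_u0i u) M)) (Nat.mod (T_u0i u) M) u) (dp_u0i_3 j u) (Nat.ble (nat_lit 10) j)
noncomputable def dp_u0i_5 (j u : ℕ) : Bool :=
  Bool.rec (motive := fun _ => Bool) (lF3 T_u1i T_u0 T_u1 M (Nat.sub (T_u0i u) (Nat.mod (T_u0i u) M)) (Nat.mod (T_u0i u) M) u) (lF3 T_u1 T_u0 T_u1i M (Nat.sub (T_u0i u) (Nat.mod (T_u0i u) M)) (Nat.mod (T_u0i u) M) u) (Nat.ble (nat_lit 14) j)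
noncomputable def dp_u0i_6 (j u : ℕ) : Bool :=
  Bool.rec (motive := fun _ => Bool) (lS MG [T_t5, T_u0, T_t5] M (Nat.sub (T_u0i u) (Nat.mod (T_u0i u) M)) (nat_lit 40) (Nat.mod (T_u0i u) M) u) (dp_u0i_5 j u) (Nat.ble (nat_lit 13) j)
noncomputable def dp_u0i_7 (j u : ℕ) : Bool :=
  Bool.rec (motive := fun _ => Bool) (lF3 T_s T_u0 T_s M (Nat.sub (T_u0i u) (Nat.mod (T_u0i u) M)) (Nat.mod (T_u0i u) M) u) (lS MG [T_t3, T_u0, T_t3] M (Nat.sub (T_u0i u) (Nat.mod (T_u0i u) M)) (nat_lit 40) (Nat.mod (T_u0i u) M) u) (Nat.ble (nat_lit 16) j)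
noncomputable def dp_u0i_8 (j u : ℕ) : Bool :=
  Bool.rec (motive := fun _ => Bool) (lS MG [T_t7, T_u0, T_t7] M (Nat.sub (T_u0i u) (Nat.mod (T_u0i u) M)) (nat_lit 40) (Nat.mod (T_u0i u) M) u) (lS MG [T_t1, T_t6, T_t7, T_t1, T_t6, T_t7, T_t6, T_t1, T_t7] M (Nat.sub (T_u0i u) (Nat.mod (T_u0i u) M)) (nat_lit 40) (Nat.mod (T_u0i u) M) u) (Nat.ble (nat_lit 18) j)
noncomputable def dp_u0i_9 (j u : ℕ) : Bool :=
  Bool.rec (motive := fun _ => Bool) (lS MG [T_t4, T_u0, T_t4] M (Nat.sub (T_u0i u) (Nat.mod (T_u0i u) M)) (nat_lit 40) (Nat.mod (T_u0i u) M) u) (lF [T_t1, T_t6, T_t7, T_t1, T_t6, T_t7, T_t6, T_t1, T_t7] M (Nat.sub (T_u0i u) (Nat.mod (T_u0i u) M)) (Nat.mod (T_u0i u) M) u) (Nat.ble (nat_lit 20) j)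
noncomputable def dp_u0i_10 (j u : ℕ) : Bool :=
  Bool.rec (motive := fun _ => Bool) (dp_u0i_8 j u) (dp_u0i_9 j u) (Nat.ble (nat_lit 19) j)
noncomputable def dp_u0i_11 (j u : ℕ) : Bool :=
  Bool.rec (motive := fun _ => Bool) (dp_u0i_7 j u) (dp_u0i_10 j u) (Nat.ble (nat_lit 17) j)
noncomputable def dp_u0i_12 (j u : ℕ) : Bool :=
  Bool.rec (motive := fun _ => Bool) (dp_u0i_6 j u) (dp_u0i_11 j u) (Nat.ble (nat_lit 15) j)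
noncomputable def dp_u0i_13 (j u : ℕ) : Bool :=
  Bool.rec (motive := fun _ => Bool) (dp_u0i_4 j u) (dp_u0i_12 j u) (Nat.ble (nat_lit 12) j)
noncomputable def dp_u0i_14 (j u : ℕ) : Bool :=
  Bool.rec (motive := fun _ => Bool) (dp_u0i_2 j u) (dp_u0i_13 j u) (Nat.ble (nat_lit 9) j)
noncomputable def dp_u0i_15 (j u : ℕ) : Bool :=
  Bool.rec (motive := fun _ => Bool) (Bool.rec (motive := fun _ => Bool) (Bool.rec (motive := fun _ => Bool) (lF3 T_t7 T_u0 T_t7 M (Nat.sub (T_u0i u) (Nat.mod (T_u0i u) M)) (Nat.mod (T_u0i u) M) u) (lF3 T_t3 T_u0 T_t3 M (Nat.sub (T_u0i u) (Nat.mod (T_u0i u) M)) (Nat.mod (T_u0i u) M) u) (Nat.ble (nat_lit 3) j)) (dp_u0i_0 j u) (Nat.ble (nat_lit 4) j)) (dp_u0i_14 j u) (Nat.ble (nat_lit 6) j)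
noncomputable def disp_u0i (j u : ℕ) : Bool :=
  Bool.rec (motive := fun _ => Bool) (Bool.rec (motive := fun _ => Bool) (lF1 T_u0 M (Nat.sub (T_u0i u) (Nat.mod (T_u0i u) M)) (Nat.mod (T_u0i u) M) u) (lDef P (nat_lit 11) u (Nat.mod (T_u0i u) M)) (Nat.ble (nat_lit 1) j)) (dp_u0i_15 j u) (Nat.ble (nat_lit 2) j)
noncomputable def chk_u0i (j u : ℕ) : Bool :=
  Bool.rec (motive := fun _ => Bool) (disp_u0i j u) (Nat.ble (Nat.succ (MG u)) A) (Nat.ble A (T_u0i u))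
noncomputable def dp_u1_0 (j u : ℕ) : Bool :=
  Bool.rec (motive := fun _ => Bool) (lF3 T_t5 T_u1i T_t5 M (Nat.sub (T_u1 u) (Nat.mod (T_u1 u) M)) (Nat.mod (T_u1 u) M) u) (lF3 T_t3 T_u1i T_t3 M (Nat.sub (T_u1 u) (Nat.mod (T_u1 u) M)) (Nat.mod (T_u1 u) M) u) (Nat.ble (nat_lit 6) j)
noncomputable def dp_u1_1 (j u : ℕ) : Bool :=
  Bool.rec (motive := fun _ => Bool) (lF3 T_t6 T_u1i T_t6 M (Nat.sub (T_u1 u) (Nat.mod (T_u1 u) M)) (Nat.mod (T_u1 u) M) u) (lDef P (nat_lit 14) u (Nat.mod (T_u1 u) M)) (Nat.ble (nat_lit 8) j)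
noncomputable def dp_u1_2 (j u : ℕ) : Bool :=
  Bool.rec (motive := fun _ => Bool) (lF3 T_t4 T_u1i T_t4 M (Nat.sub (T_u1 u) (Nat.mod (T_u1 u) M)) (Nat.mod (T_u1 u) M) u) (lS MG [T_t4, T_u1i, T_t4] M (Nat.sub (T_u1 u) (Nat.mod (T_u1 u) M)) (nat_lit 40) (Nat.mod (T_u1 u) M) u) (Nat.ble (nat_lit 11) j)
noncomputable def dp_u1_3 (j u : ℕ) : Bool :=
  Bool.rec (motive := fun _ => Bool) (lF3 T_t2 T_u1i T_t2 M (Nat.sub (T_u1 u) (Nat.mod (T_u1 u) M)) (Nat.mod (T_u1 u) M) u) (dp_u1_2 j u) (Nat.ble (nat_lit 10) j)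
noncomputable def disp_u1 (j u : ℕ) : Bool :=
  Bool.rec (motive := fun _ => Bool) (lF1 T_u1i M (Nat.sub (T_u1 u) (Nat.mod (T_u1 u) M)) (Nat.mod (T_u1 u) M) u) (Bool.rec (motive := fun _ => Bool) (Bool.rec (motive := fun _ => Bool) (lF3 T_t0 T_u1i T_t0 M (Nat.sub (T_u1 u) (Nat.mod (T_u1 u) M)) (Nat.mod (T_u1 u) M) u) (Bool.rec (motive := fun _ => Bool) (lF3 T_t7 T_u1i T_t7 M (Nat.sub (T_u1 u) (Nat.mod (T_u1 u) M)) (Nat.mod (T_u1 u) M) u) (lF3 T_t1 T_u1i T_t1 M (Nat.sub (T_u1 u) (Nat.mod (T_u1 u) M)) (Nat.mod (T_u1 u) M) u) (Nat.ble (nat_lit 3) j)) (Nat.ble (nat_lit 2) j)) (Bool.rec (motive := fun _ => Bool) (Bool.rec (motive := fun _ => Bool) (lDef P (nat_lit 13) (Nat.mod (T_u1 u) M) u) (dp_u1_0 j u) (Nat.ble (nat_lit 5) j)) (Bool.rec (motive := fun _ => Bool) (dp_u1_1 j u) (dp_u1_3 j u) (Nat.ble (nat_lit 9) j)) (Nat.ble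 (nat_lit 7) j)) (Nat.ble (nat_lit 4) j)) (Nat.ble (nat_lit 1) j)
noncomputable def chk_u1 (j u : ℕ) : Bool :=
  Bool.rec (motive := fun _ => Bool) (disp_u1 j u) (Nat.ble (Nat.succ (MG u)) A) (Nat.ble A (T_u1 u))
noncomputable def dp_u1i_0 (j u : ℕ) : Bool :=
  Bool.rec (motive := fun _ => Bool) (lF3 T_t2 T_u1 T_t2 M (Nat.sub (T_u1i u) (Nat.mod (T_u1i u) M)) (Nat.mod (T_u1i u) M) u) (lF3 T_t5 T_u1 T_t5 M (Nat.sub (T_u1i u) (Nat.mod (T_u1i u) M)) (Nat.mod (T_u1i u) M) u) (Nat.ble (nat_lit 7) j)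
noncomputable def dp_u1i_1 (j u : ℕ) : Bool :=
  Bool.rec (motive := fun _ => Bool) (lDef P (nat_lit 14) (Nat.mod (T_u1i u) M) u) (lF3 T_t6 T_u1 T_t6 M (Nat.sub (T_u1i u) (Nat.mod (T_u1i u) M)) (Nat.mod (T_u1i u) M) u) (Nat.ble (nat_lit 9) j)
noncomputable def dp_u1i_2 (j u : ℕ) : Bool :=
  Bool.rec (motive := fun _ => Bool) (lS MG [T_u0i, T_u1, T_u0] M (Nat.sub (T_u1i u) (Nat.mod (T_u1i u) M)) (nat_lit 40) (Nat.mod (T_u1i u) M) u) (lS MG [T_t6, T_u1, T_t6] M (Nat.sub (T_u1i u) (Nat.mod (T_u1i u) M)) (nat_lit 40) (Nat.mod (T_u1i u) M) u) (Nat.ble (nat_lit 12) j)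
noncomputable def dp_u1i_3 (j u : ℕ) : Bool :=
  Bool.rec (motive := fun _ => Bool) (lS MG [T_t7, T_u1, T_t7] M (Nat.sub (T_u1i u) (Nat.mod (T_u1i u) M)) (nat_lit 40) (Nat.mod (T_u1i u) M) u) (lF3 T_u0i T_u1 T_u0 M (Nat.sub (T_u1i u) (Nat.mod (T_u1i u) M)) (Nat.mod (T_u1i u) M) u) (Nat.ble (nat_lit 15) j)
noncomputable def dp_u1i_4 (j u : ℕ) : Bool :=
  Bool.rec (motive := fun _ => Bool) (lS MG [T_t5, T_u1, T_t5] M (Nat.sub (T_u1i u) (Nat.mod (T_u1i u) M)) (nat_lit 40) (Nat.mod (T_u1i u) M) u) (dp_u1i_3 j u) (Nat.ble (nat_lit 14) j)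
noncomputable def dp_u1i_5 (j u : ℕ) : Bool :=
  Bool.rec (motive := fun _ => Bool) (dp_u1i_2 j u) (dp_u1i_4 j u) (Nat.ble (nat_lit 13) j)
noncomputable def dp_u1i_6 (j u : ℕ) : Bool :=
  Bool.rec (motive := fun _ => Bool) (lF3 T_t4 T_u1 T_t4 M (Nat.sub (T_u1i u) (Nat.mod (T_u1i u) M)) (Nat.mod (T_u1i u) M) u) (dp_u1i_5 j u) (Nat.ble (nat_lit 11) j)
noncomputable def dp_u1i_7 (j u : ℕ) : Bool :=
  Bool.rec (motive := fun _ => Bool) (dp_u1i_1 j u) (dp_u1i_6 j u) (Nat.ble (nat_lit 10) j)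
noncomputable def dp_u1i_8 (j u : ℕ) : Bool :=
  Bool.rec (motive := fun _ => Bool) (Bool.rec (motive := fun _ => Bool) (lDef P (nat_lit 13) u (Nat.mod (T_u1i u) M)) (dp_u1i_0 j u) (Nat.ble (nat_lit 6) j)) (dp_u1i_7 j u) (Nat.ble (nat_lit 8) j)
noncomputable def dp_u1i_9 (j u : ℕ) : Bool :=
  Bool.rec (motive := fun _ => Bool) (Bool.rec (motive := fun _ => Bool) (lF3 T_t7 T_u1 T_t7 M (Nat.sub (T_u1i u) (Nat.mod (T_u1i u) M)) (Nat.mod (T_u1i u) M) u) (Bool.rec (motive := fun _ => Bool) (lF3 T_t1 T_u1 T_t1 M (Nat.sub (T_u1i u) (Nat.mod (T_u1i u) M)) (Nat.mod (T_u1i u) M) u) (lF3 T_t3 T_u1 T_t3 M (Nat.sub (T_u1i u) (Nat.mod (T_u1i u) M)) (Nat.mod (T_u1i u) M) u) (Nat.ble (nat_lit 4) j)) (Nat.ble (nat_lit 3) j)) (dp_u1i_8 j u) (Nat.ble (nat_lit 5) j)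
noncomputable def disp_u1i (j u : ℕ) : Bool :=
  Bool.rec (motive := fun _ => Bool) (Bool.rec (motive := fun _ => Bool) (lF1 T_u1 M (Nat.sub (T_u1i u) (Nat.mod (T_u1i u) M)) (Nat.mod (T_u1i u) M) u) (lF3 T_t0 T_u1 T_t0 M (Nat.sub (T_u1i u) (Nat.mod (T_u1i u) M)) (Nat.mod (T_u1i u) M) u) (Nat.ble (nat_lit 1) j)) (dp_u1i_9 j u) (Nat.ble (nat_lit 2) j)
noncomputable def chk_u1i (j u : ℕ) : Bool :=
  Bool.rec (motive := fun _ => Bool) (disp_u1i j u) (Nat.ble (Nat.succ (MG u)) A) (Nat.ble A (T_u1i u))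
noncomputable def dp_s_0 (j u : ℕ) : Bool :=
  Bool.rec (motive := fun _ => Bool) (lF3 T_t2 T_s T_t2 M (Nat.sub (T_s u) (Nat.mod (T_s u) M)) (Nat.mod (T_s u) M) u) (lF3 T_t6 T_s T_t6 M (Nat.sub (T_s u) (Nat.mod (T_s u) M)) (Nat.mod (T_s u) M) u) (Nat.ble (nat_lit 7) j)
noncomputable def dp_s_1 (j u : ℕ) : Bool :=
  Bool.rec (motive := fun _ => Bool) (lDef P (nat_lit 15) (Nat.mod (T_s u) M) u) (lDef P (nat_lit 15) u (Nat.mod (T_s u) M)) (Nat.ble (nat_lit 9) j)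
noncomputable def dp_s_2 (j u : ℕ) : Bool :=
  Bool.rec (motive := fun _ => Bool) (lS MG [T_u0i, T_s, T_u0] M (Nat.sub (T_s u) (Nat.mod (T_s u) M)) (nat_lit 40) (Nat.mod (T_s u) M) u) (lF1 T_s M (Nat.sub (T_s u) (Nat.mod (T_s u) M)) (Nat.mod (T_s u) M) u) (Nat.ble (nat_lit 12) j)
noncomputable def dp_s_3 (j u : ℕ) : Bool :=
  Bool.rec (motive := fun _ => Bool) (lS MG [T_t6, T_s, T_t6] M (Nat.sub (T_s u) (Nat.mod (T_s u) M)) (nat_lit 40) (Nat.mod (T_s u) M) u) (lS MG [T_t1, T_s, T_t1] M (Nat.sub (T_s u) (Nat.mod (T_s u) M)) (nat_lit 40) (Nat.mod (T_s u) M) u) (Nat.ble (nat_lit 16) j)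
noncomputable def dp_s_4 (j u : ℕ) : Bool :=
  Bool.rec (motive := fun _ => Bool) (lS MG [T_t7, T_s, T_t7] M (Nat.sub (T_s u) (Nat.mod (T_s u) M)) (nat_lit 40) (Nat.mod (T_s u) M) u) (dp_s_3 j u) (Nat.ble (nat_lit 15) j)
noncomputable def dp_s_5 (j u : ℕ) : Bool :=
  Bool.rec (motive := fun _ => Bool) (lS MG [T_t5, T_s, T_t5] M (Nat.sub (T_s u) (Nat.mod (T_s u) M)) (nat_lit 40) (Nat.mod (T_s u) M) u) (dp_s_4 j u) (Nat.ble (nat_lit 14) j)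
noncomputable def dp_s_6 (j u : ℕ) : Bool :=
  Bool.rec (motive := fun _ => Bool) (dp_s_2 j u) (dp_s_5 j u) (Nat.ble (nat_lit 13) j)
noncomputable def dp_s_7 (j u : ℕ) : Bool :=
  Bool.rec (motive := fun _ => Bool) (lF3 T_t4 T_s T_t4 M (Nat.sub (T_s u) (Nat.mod (T_s u) M)) (Nat.mod (T_s u) M) u) (dp_s_6 j u) (Nat.ble (nat_lit 11) j)
noncomputable def dp_s_8 (j u : ℕ) : Bool :=
  Bool.rec (motive := fun _ => Bool) (dp_s_1 j u) (dp_s_7 j u) (Nat.ble (nat_lit 10) j)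
noncomputable def dp_s_9 (j u : ℕ) : Bool :=
  Bool.rec (motive := fun _ => Bool) (dp_s_0 j u) (dp_s_8 j u) (Nat.ble (nat_lit 8) j)
noncomputable def disp_s (j u : ℕ) : Bool :=
  Bool.rec (motive := fun _ => Bool) (Bool.rec (motive := fun _ => Bool) (lF3 T_t0 T_s T_t0 M (Nat.sub (T_s u) (Nat.mod (T_s u) M)) (Nat.mod (T_s u) M) u) (Bool.rec (motive := fun _ => Bool) (lF3 T_t1 T_s T_t1 M (Nat.sub (T_s u) (Nat.mod (T_s u) M)) (Nat.mod (T_s u) M) u) (lF3 T_t7 T_s T_t7 M (Nat.sub (T_s u) (Nat.mod (T_s u) M)) (Nat.mod (T_s u) M) u) (Nat.ble (nat_lit 2) j)) (Nat.ble (nat_lit 1) j)) (Bool.rec (motive := fun _ => Bool) (Bool.rec (motive := fun _ => Bool) (lF3 T_u0i T_s T_u0 M (Nat.sub (T_s u) (Nat.mod (T_s u) M)) (Nat.mod (T_s u) M) u) (Bool.rec (motive := fun _ => Bool) (lF3 T_t3 T_s T_t3 M (Nat.sub (T_s u) (Nat.mod (T_s u) M))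 (Nat.mod (T_s u) M) u) (lF3 T_t5 T_s T_t5 M (Nat.sub (T_s u) (Nat.mod (T_s u) M)) (Nat.mod (T_s u) M) u) (Nat.ble (nat_lit 5) j)) (Nat.ble (nat_lit 4) j)) (dp_s_9 j u) (Nat.ble (nat_lit 6) j)) (Nat.ble (nat_lit 3) j)
noncomputable def chk_s (j u : ℕ) : Bool :=
  Bool.rec (motive := fun _ => Bool) (disp_s j u) (Nat.ble (Nat.succ (MG u)) A) (Nat.ble A (T_s u))
noncomputable def dM_0 (j z1 z2 u : ℕ) : Bool :=
  Bool.rec (motive := fun _ => Bool) (Bool.rec (motive := fun _ => Bool) (mCo MG T_t0 M (Nat.sub (MG u) (Nat.mod (MG u) M)) (nat_lit 40) z1 z2 u (Nat.mod (MG u) M)) (mCo MG T_u0 M (Nat.sub (MG u) (Nat.mod (MG u) M)) (nat_lit 40) z1 z2 u (Nat.mod (MG u) M)) (Nat.ble (nat_lit 1) j)) (Bool.rec (motive := fun _ => Bool) (mCo MG T_t1 M (Nat.sub (MG u) (Nat.mod (MG u) M)) (nat_lit 40) z1 z2 u (Nat.mod (MG u) M)) (Bool.rec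 (motive := fun _ => Bool) (mCo MG T_t7 M (Nat.sub (MG u) (Nat.mod (MG u) M)) (nat_lit 40) z1 z2 u (Nat.mod (MG u) M)) (mCo MG T_t6 M (Nat.sub (MG u) (Nat.mod (MG u) M)) (nat_lit 40) z1 z2 u (Nat.mod (MG u) M)) (Nat.ble (nat_lit 4) j)) (Nat.ble (nat_lit 3) j)) (Nat.ble (nat_lit 2) j)
noncomputable def dM_1 (j z1 z2 u : ℕ) : Bool :=
  Bool.rec (motive := fun _ => Bool) (Bool.rec (motive := fun _ => Bool) (mCo MG T_t3 M (Nat.sub (MG u) (Nat.mod (MG u) M)) (nat_lit 40) z1 z2 u (Nat.mod (MG u) M)) (mCo MG T_t2 M (Nat.sub (MG u) (Nat.mod (MG u) M)) (nat_lit 40) z1 z2 u (Nat.mod (MG u) M)) (Nat.ble (nat_lit 6) j)) (Bool.rec (motive := fun _ => Bool) (mCo MG T_t5 M (Nat.sub (MG u) (Nat.mod (MG u) M)) (nat_lit 40) z1 z2 u (Nat.mod (MG u) M)) (Bool.rec (motive := fun _ => Bool) (mCo MG T_t4 M (Nat.sub (MG u) (Nat.mod (MG u) M))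 (nat_lit 40) z1 z2 u (Nat.mod (MG u) M)) (Bool.rec (motive := fun _ => Bool) (mCo MG T_s M (Nat.sub (MG u) (Nat.mod (MG u) M)) (nat_lit 40) z1 z2 u (Nat.mod (MG u) M)) (mRel MG [T_t2, T_t0, T_t2, T_w] [T_t0] M (Nat.sub (MG u) (Nat.mod (MG u) M)) (nat_lit 40) z1 u (Nat.mod (MG u) M)) (Nat.ble (nat_lit 10) j)) (Nat.ble (nat_lit 9) j)) (Nat.ble (nat_lit 8) j)) (Nat.ble (nat_lit 7) j)
noncomputable def dM_2 (j z1 z2 u : ℕ) : Bool :=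
  Bool.rec (motive := fun _ => Bool) (Bool.rec (motive := fun _ => Bool) (mRel MG [T_t4, T_t5, T_t4, T_t5, T_t4, T_t5] [] M (Nat.sub (MG u) (Nat.mod (MG u) M)) (nat_lit 40) z1 u (Nat.mod (MG u) M)) (Bool.rec (motive := fun _ => Bool) (mRel MG [T_t2, T_t1] [T_t1, T_t2, T_t1, T_t2] M (Nat.sub (MG u) (Nat.mod (MG u) M)) (nat_lit 40) z1 u (Nat.mod (MG u) M)) (mRel MG [T_t7, T_u0i, T_t7] [T_u0i] M (Nat.sub (MG u) (Nat.mod (MG u) M)) (nat_lit 40) z1 u (Nat.mod (MG u) M)) (Nat.ble (nat_lit 13) j)) (Nat.ble (nat_lit 12) j)) (Bool.rec (motive := fun _ => Bool) (Bool.rec (motive := fun _ => Bool) (mRel MG [T_t1, T_t6, T_t7, T_t1, T_t6, T_t7] [T_u0, T_t7, T_t1, T_t6] M (Nat.sub (MG u) (Nat.mod (MG u) M)) (nat_lit 40) z1 u (Nat.mod (MG u) M)) (Bool.rec (motive := fun _ => Bool) (mRel MG [T_t2, T_t3, T_t2, T_t3, T_t2, T_t3] [] M (Nat.sub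 (MG u) (Nat.mod (MG u) M)) (nat_lit 40) z1 u (Nat.mod (MG u) M)) (mRel MG [T_t1] [T_u1, T_t1, T_u1i] M (Nat.sub (MG u) (Nat.mod (MG u) M)) (nat_lit 40) z1 u (Nat.mod (MG u) M)) (Nat.ble (nat_lit 16) j)) (Nat.ble (nat_lit 15) j)) (Bool.rec (motive := fun _ => Bool) (Bool.rec (motive := fun _ => Bool) (mRel MG [T_t1, T_t7, T_t6, T_t1, T_u0, T_t7, T_t1] [T_t6, T_t7, T_t6] M (Nat.sub (MG u) (Nat.mod (MG u) M)) (nat_lit 40) z1 u (Nat.mod (MG u) M)) (mRel MG [T_s, T_t5, T_s] [T_t5] M (Nat.sub (MG u) (Nat.mod (MG u) M)) (nat_lit 40) z1 u (Nat.mod (MG u) M)) (Nat.ble (nat_lit 18) j)) (Bool.rec (motive := fun _ => Bool) (mCo MG T_u1 M (Nat.sub (MG u) (Nat.mod (MG u) M)) (nat_lit 40) z1 z2 u (Nat.mod (MG u) M)) (mRel MG [T_u1i, T_t0, T_u1] [T_t0] M (Nat.sub (MG u) (Nat.mod (MG u) M)) (nat_lit 40) z1 u (Nat.mod (MG u) M)) (Nat.ble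 (nat_lit 20) j)) (Nat.ble (nat_lit 19) j)) (Nat.ble (nat_lit 17) j)) (Nat.ble (nat_lit 14) j)
noncomputable def dM_3 (j z1 z2 u : ℕ) : Bool :=
  Bool.rec (motive := fun _ => Bool) (Bool.rec (motive := fun _ => Bool) (mCo MG T_u1i M (Nat.sub (MG u) (Nat.mod (MG u) M)) (nat_lit 40) z1 z2 u (Nat.mod (MG u) M)) (Bool.rec (motive := fun _ => Bool) (mRel MG [T_u1, T_t5, T_u1i] [T_t5] M (Nat.sub (MG u) (Nat.mod (MG u) M)) (nat_lit 40) z1 u (Nat.mod (MG u) M)) (mRel MG [T_t4, T_t0] [T_t7, T_t0, T_t1, T_t2, T_t0, T_t7, T_u1i, T_t0, T_t1] M (Nat.sub (MG u) (Nat.mod (MG u) M)) (nat_lit 40) z1 u (Nat.mod (MG u) M)) (Nat.ble (nat_lit 23) j)) (Nat.ble (nat_lit 22) j)) (Bool.rec (motive := fun _ => Bool) (Bool.rec (motive := fun _ => Bool) (mRel MG [T_t0, T_t1, T_t0, T_t1, T_t0, T_t1] [] M (Nat.sub (MG u) (Nat.mod (MG u) M)) (nat_lit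 40) z1 u (Nat.mod (MG u) M)) (mRel MG [T_t1, T_t4, T_t1, T_t4, T_t1, T_t4] [] M (Nat.sub (MG u) (Nat.mod (MG u) M)) (nat_lit 40) z1 u (Nat.mod (MG u) M)) (Nat.ble (nat_lit 25) j)) (Bool.rec (motive := fun _ => Bool) (mCo MG T_u0i M (Nat.sub (MG u) (Nat.mod (MG u) M)) (nat_lit 40) z1 z2 u (Nat.mod (MG u) M)) (mRel MG [T_u0, T_t6, T_u0i] [T_t6] M (Nat.sub (MG u) (Nat.mod (MG u) M)) (nat_lit 40) z1 u (Nat.mod (MG u) M)) (Nat.ble (nat_lit 27) j)) (Nat.ble (nat_lit 26) j)) (Nat.ble (nat_lit 24) j)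
noncomputable def dM_4 (j z1 z2 u : ℕ) : Bool :=
  Bool.rec (motive := fun _ => Bool) (Bool.rec (motive := fun _ => Bool) (Bool.rec (motive := fun _ => Bool) (mRel MG [T_t2, T_t0] [T_t0, T_w, T_t2] M (Nat.sub (MG u) (Nat.mod (MG u) M)) (nat_lit 40) z1 u (Nat.mod (MG u) M)) (mRel MG [T_t1, T_t2, T_t7] [T_s, T_t3, T_t7, T_t2, T_t7, T_t3, T_t1, T_t2] M (Nat.sub (MG u) (Nat.mod (MG u) M)) (nat_lit 40) z1 u (Nat.mod (MG u) M)) (Nat.ble (nat_lit 29) j)) (Bool.rec (motive := fun _ => Bool) (mRel MG [T_t0, T_t1, T_t0, T_u1, T_t7, T_t0, T_t2, T_t1, T_t0, T_t7, T_t4] [] M (Nat.sub (MG u) (Nat.mod (MG u) M)) (nat_lit 40) z1 u (Nat.mod (MG u) M)) (mRel MG [T_t1, T_t0, T_u1, T_t7, T_t0, T_t2, T_t1, T_t0, T_t7] [T_t0, T_t4] M (Nat.sub (MG u) (Nat.mod (MG u) M)) (nat_lit 40) z1 u (Nat.mod (MG u) M)) (Nat.ble (nat_lit 31) j)) (Nat.ble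 (nat_lit 30) j)) (Bool.rec (motive := fun _ => Bool) (Bool.rec (motive := fun _ => Bool) (mRel MG [T_t1, T_t0, T_t4] [T_t0, T_u1, T_t7, T_t0, T_t2, T_t1, T_t0, T_t7] M (Nat.sub (MG u) (Nat.mod (MG u) M)) (nat_lit 40) z1 u (Nat.mod (MG u) M)) (mRel MG [T_t7, T_u0i, T_t1, T_t6, T_t7] [T_t1, T_t6, T_t7, T_t6, T_t1] M (Nat.sub (MG u) (Nat.mod (MG u) M)) (nat_lit 40) z1 u (Nat.mod (MG u) M)) (Nat.ble (nat_lit 33) j)) (Bool.rec (motive := fun _ => Bool) (mRel MG [T_u0, T_t0] [T_t0, T_u0] M (Nat.sub (MG u) (Nat.mod (MG u) M)) (nat_lit 40) z1 u (Nat.mod (MG u) M)) (mRel MG [T_t4, T_t6] [T_t6, T_w, T_t4] M (Nat.sub (MG u) (Nat.mod (MG u) M)) (nat_lit 40) z1 u (Nat.mod (MG u) M)) (Nat.ble (nat_lit 35) j)) (Nat.ble (nat_lit 34) j)) (Nat.ble (nat_lit 32) j)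
noncomputable def dM_5 (j z1 z2 u : ℕ) : Bool :=
  Bool.rec (motive := fun _ => Bool) (dM_3 j z1 z2 u) (dM_4 j z1 z2 u) (Nat.ble (nat_lit 28) j)
noncomputable def dM_6 (j z1 z2 u : ℕ) : Bool :=
  Bool.rec (motive := fun _ => Bool) (dM_2 j z1 z2 u) (dM_5 j z1 z2 u) (Nat.ble (nat_lit 21) j)
noncomputable def dM_7 (j z1 z2 u : ℕ) : Bool :=
  Bool.rec (motive := fun _ => Bool) (Bool.rec (motive := fun _ => Bool) (mRel MG [T_t4, T_t2] [T_w, T_t2, T_t4] M (Nat.sub (MG u) (Nat.mod (MG u) M)) (nat_lit 40) z1 u (Nat.mod (MG u) M)) (Bool.rec (motive := fun _ => Bool) (mRel MG [T_t1, T_t0, T_u1, T_t7, T_t0, T_t2, T_t1, T_t0, T_t7, T_t4] [T_t0] M (Nat.sub (MG u) (Nat.mod (MG u) M)) (nat_lit 40) z1 u (Nat.mod (MG u) M)) (mRel MG [T_t6, T_t1, T_t7, T_u0i, T_t1] [T_t7, T_t6, T_t1, T_t7, T_t6] M (Nat.sub (MG u) (Nat.mod (MG u) M)) (nat_lit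 40) z1 u (Nat.mod (MG u) M)) (Nat.ble (nat_lit 38) j)) (Nat.ble (nat_lit 37) j)) (Bool.rec (motive := fun _ => Bool) (Bool.rec (motive := fun _ => Bool) (mRel MG [T_u0, T_t2] [T_t2, T_u0] M (Nat.sub (MG u) (Nat.mod (MG u) M)) (nat_lit 40) z1 u (Nat.mod (MG u) M)) (mRel MG [T_t4, T_t0] [T_w, T_t0, T_t4] M (Nat.sub (MG u) (Nat.mod (MG u) M)) (nat_lit 40) z1 u (Nat.mod (MG u) M)) (Nat.ble (nat_lit 40) j)) (Bool.rec (motive := fun _ => Bool) (mRel MG [T_t1, T_t0, T_t7, T_t4, T_t0, T_t1, T_t0, T_u1] [T_t2, T_t0, T_t7] M (Nat.sub (MG u) (Nat.mod (MG u) M)) (nat_lit 40) z1 u (Nat.mod (MG u) M)) (mRel MG [T_t0, T_t2, T_t1, T_t0] [T_t7, T_u1i, T_t0, T_t1, T_t0, T_t4, T_t7] M (Nat.sub (MG u) (Nat.mod (MG u) M)) (nat_lit 40) z1 u (Nat.mod (MG u) M)) (Nat.ble (nat_lit 42) j)) (Nat.ble (nat_lit 41) j)) (Nat.ble (nat_lit 39) j)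
noncomputable def dM_8 (j z1 z2 u : ℕ) : Bool :=
  Bool.rec (motive := fun _ => Bool) (Bool.rec (motive := fun _ => Bool) (mRel MG [T_t3, T_u0i] [T_u0i, T_t3] M (Nat.sub (MG u) (Nat.mod (MG u) M)) (nat_lit 40) z1 u (Nat.mod (MG u) M)) (Bool.rec (motive := fun _ => Bool) (mRel MG [T_t2, T_t6, T_t2, T_w] [T_t6] M (Nat.sub (MG u) (Nat.mod (MG u) M)) (nat_lit 40) z1 u (Nat.mod (MG u) M)) (mRel MG [T_t0, T_t5] [T_t5, T_w, T_t0] M (Nat.sub (MG u) (Nat.mod (MG u) M)) (nat_lit 40) z1 u (Nat.mod (MG u) M)) (Nat.ble (nat_lit 45) j)) (Nat.ble (nat_lit 44) j)) (Bool.rec (motive := fun _ => Bool) (Bool.rec (motive := fun _ => Bool) (mRel MG [T_t3, T_t5, T_t3, T_w] [T_t5] M (Nat.sub (MG u) (Nat.mod (MG u) M)) (nat_lit 40) z1 u (Nat.mod (MG u) M)) (mRel MG [T_t7, T_t2, T_t7, T_t3, T_s] [T_t3, T_t1, T_t2, T_t7, T_t2, T_t1] M (Nat.sub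 (MG u) (Nat.mod (MG u) M)) (nat_lit 40) z1 u (Nat.mod (MG u) M)) (Nat.ble (nat_lit 47) j)) (Bool.rec (motive := fun _ => Bool) (mRel MG [T_t0, T_t4] [T_t4, T_w, T_t0] M (Nat.sub (MG u) (Nat.mod (MG u) M)) (nat_lit 40) z1 u (Nat.mod (MG u) M)) (mRel MG [T_t4, T_t1, T_t4, T_t1] [T_t1, T_t4] M (Nat.sub (MG u) (Nat.mod (MG u) M)) (nat_lit 40) z1 u (Nat.mod (MG u) M)) (Nat.ble (nat_lit 49) j)) (Nat.ble (nat_lit 48) j)) (Nat.ble (nat_lit 46) j)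
noncomputable def dM_9 (j z1 z2 u : ℕ) : Bool :=
  Bool.rec (motive := fun _ => Bool) (dM_7 j z1 z2 u) (dM_8 j z1 z2 u) (Nat.ble (nat_lit 43) j)
noncomputable def dM_10 (j z1 z2 u : ℕ) : Bool :=
  Bool.rec (motive := fun _ => Bool) (Bool.rec (motive := fun _ => Bool) (mRel MG [T_t7, T_t0, T_t2, T_t1, T_t0, T_t7] [T_u1i, T_t0, T_t1, T_t0, T_t4] M (Nat.sub (MG u) (Nat.mod (MG u) M)) (nat_lit 40) z1 u (Nat.mod (MG u) M)) (Bool.rec (motive := fun _ => Bool) (mRel MG [T_u0i, T_t1, T_u0] [T_t1] M (Nat.sub (MG u) (Nat.mod (MG u) M)) (nat_lit 40) z1 u (Nat.mod (MG u) M)) (mRel MG [T_t2, T_t7, T_t3, T_s, T_t1, T_t2] [T_t7, T_t3, T_t1, T_t2, T_t7] M (Nat.sub (MG u) (Nat.mod (MG u) M)) (nat_lit 40) z1 u (Nat.mod (MG u) M)) (Nat.ble (nat_lit 52) j)) (Nat.ble (nat_lit 51) j)) (Bool.rec (motive := fun _ => Bool) (Bool.rec (motive :=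 fun _ => Bool) (mRel MG [T_t0, T_t1, T_t0, T_t1, T_t0] [T_t1] M (Nat.sub (MG u) (Nat.mod (MG u) M)) (nat_lit 40) z1 u (Nat.mod (MG u) M)) (mRel MG [T_u0, T_t6] [T_t6, T_u0] M (Nat.sub (MG u) (Nat.mod (MG u) M)) (nat_lit 40) z1 u (Nat.mod (MG u) M)) (Nat.ble (nat_lit 54) j)) (Bool.rec (motive := fun _ => Bool) (mRel MG [T_t7, T_u1i, T_t0, T_t1, T_t0, T_t4] [T_t0, T_t2, T_t1, T_t0, T_t7] M (Nat.sub (MG u) (Nat.mod (MG u) M)) (nat_lit 40) z1 u (Nat.mod (MG u) M)) (mRel MG [T_t5, T_t7, T_t5, T_t7] [T_t7, T_t5] M (Nat.sub (MG u) (Nat.mod (MG u) M)) (nat_lit 40) z1 u (Nat.mod (MG u) M)) (Nat.ble (nat_lit 56) j)) (Nat.ble (nat_lit 55) j)) (Nat.ble (nat_lit 53) j)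
noncomputable def dM_11 (j z1 z2 u : ℕ) : Bool :=
  Bool.rec (motive := fun _ => Bool) (Bool.rec (motive := fun _ => Bool) (Bool.rec (motive := fun _ => Bool) (mRel MG [T_t5, T_t2] [T_w, T_t2, T_t5] M (Nat.sub (MG u) (Nat.mod (MG u) M)) (nat_lit 40) z1 u (Nat.mod (MG u) M)) (mRel MG [T_t1, T_u0i, T_t1] [T_u0i] M (Nat.sub (MG u) (Nat.mod (MG u) M)) (nat_lit 40) z1 u (Nat.mod (MG u) M)) (Nat.ble (nat_lit 58) j)) (Bool.rec (motive := fun _ => Bool) (mRel MG [T_t6, T_t2, T_t6] [T_w, T_t2] M (Nat.sub (MG u) (Nat.mod (MG u) M)) (nat_lit 40) z1 u (Nat.mod (MG u) M)) (mRel MG [T_t7, T_t5, T_t7] [T_t5, T_t7, T_t5] M (Nat.sub (MG u) (Nat.mod (MG u) M)) (nat_lit 40) z1 u (Nat.mod (MG u) M)) (Nat.ble (nat_lit 60) j)) (Nat.ble (nat_lit 59) j)) (Bool.rec (motive := fun _ => Bool) (Bool.rec (motive := fun _ => Bool) (mRel MG [T_t1, T_t0,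 T_t4, T_t7, T_t0, T_t1, T_t2] [T_t0, T_u1, T_t7, T_t0] M (Nat.sub (MG u) (Nat.mod (MG u) M)) (nat_lit 40) z1 u (Nat.mod (MG u) M)) (mRel MG [T_u0i, T_t3, T_u0] [T_t3] M (Nat.sub (MG u) (Nat.mod (MG u) M)) (nat_lit 40) z1 u (Nat.mod (MG u) M)) (Nat.ble (nat_lit 62) j)) (Bool.rec (motive := fun _ => Bool) (mRel MG [T_t7, T_t3, T_s, T_t1, T_t2, T_t7, T_t2, T_t1, T_t3] [T_t2, T_t7] M (Nat.sub (MG u) (Nat.mod (MG u) M)) (nat_lit 40) z1 u (Nat.mod (MG u) M)) (mRel MG [T_t6, T_t4, T_t6] [T_w, T_t4] M (Nat.sub (MG u) (Nat.mod (MG u) M)) (nat_lit 40) z1 u (Nat.mod (MG u) M)) (Nat.ble (nat_lit 64) j)) (Nat.ble (nat_lit 63) j)) (Nat.ble (nat_lit 61) j)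
noncomputable def dM_12 (j z1 z2 u : ℕ) : Bool :=
  Bool.rec (motive := fun _ => Bool) (dM_10 j z1 z2 u) (dM_11 j z1 z2 u) (Nat.ble (nat_lit 57) j)
noncomputable def dM_13 (j z1 z2 u : ℕ) : Bool :=
  Bool.rec (motive := fun _ => Bool) (dM_9 j z1 z2 u) (dM_12 j z1 z2 u) (Nat.ble (nat_lit 50) j)
noncomputable def dM_14 (j z1 z2 u : ℕ) : Bool :=
  Bool.rec (motive := fun _ => Bool) (dM_6 j z1 z2 u) (dM_13 j z1 z2 u) (Nat.ble (nat_lit 36) j)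
noncomputable def dM_15 (j z1 z2 u : ℕ) : Bool :=
  Bool.rec (motive := fun _ => Bool) (dM_1 j z1 z2 u) (dM_14 j z1 z2 u) (Nat.ble (nat_lit 11) j)
noncomputable def dM_16 (j z1 z2 u : ℕ) : Bool :=
  Bool.rec (motive := fun _ => Bool) (dM_0 j z1 z2 u) (dM_15 j z1 z2 u) (Nat.ble (nat_lit 5) j)
noncomputable def chkM (u : ℕ) : Bool :=
  Bool.rec (motive := fun _ => Bool) (band (Nat.ble (Nat.succ (Nat.mod (MG u) M)) u) (dM_16 (Nat.land (MR u) (nat_lit 127)) (Nat.land (Nat.shiftRight (MR u) (nat_lit 7)) (nat_lit 511)) (Nat.shiftRight (MR u) (nat_lit 16)) u)) true (Nat.ble A (MG u))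
noncomputable def chkN (u : ℕ) : Bool :=
  band (chk_t0 (Nat.land (Nat.shiftRight (RS u) (nat_lit 0)) (nat_lit 63)) u) (band (chk_t1 (Nat.land (Nat.shiftRight (RS u) (nat_lit 6)) (nat_lit 63)) u) (band (chk_t2 (Nat.land (Nat.shiftRight (RS u) (nat_lit 12)) (nat_lit 63)) u) (band (chk_t3 (Nat.land (Nat.shiftRight (RS u) (nat_lit 18)) (nat_lit 63)) u) (band (chk_t4 (Nat.land (Nat.shiftRight (RS u) (nat_lit 24)) (nat_lit 63)) u) (band (chk_t5 (Nat.land (Nat.shiftRight (RS u) (nat_lit 30)) (nat_lit 63)) u) (band (chk_t6 (Nat.land (Nat.shiftRight (RS u) (nat_lit 36)) (nat_lit 63)) u) (band (chk_t7 (Nat.land (Nat.shiftRight (RS u) (nat_lit 42)) (nat_lit 63)) u) (band (chk_w (Nat.land (Nat.shiftRight (RS u) (nat_lit 48)) (nat_lit 63)) u) (band (chk_v (Nat.land (Nat.shiftRight (RS u) (nat_lit 54)) (nat_lit 63)) u) (band (chk_vi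 (Nat.land (Nat.shiftRight (RS u) (nat_lit 60)) (nat_lit 63)) u) (band (chk_u0 (Nat.land (Nat.shiftRight (RS u) (nat_lit 66)) (nat_lit 63)) u) (band (chk_u0i (Nat.land (Nat.shiftRight (RS u) (nat_lit 72)) (nat_lit 63)) u) (band (chk_u1 (Nat.land (Nat.shiftRight (RS u) (nat_lit 78)) (nat_lit 63)) u) (band (chk_u1i (Nat.land (Nat.shiftRight (RS u) (nat_lit 84)) (nat_lit 63)) u) (band (chk_s (Nat.land (Nat.shiftRight (RS u) (nat_lit 90)) (nat_lit 63)) u) (chkM u))))))))))))))))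
noncomputable def chkP (u : ℕ) : Bool := Bool.rec (motive := fun _ => Bool) (chkN u) true (Nat.ble M u)
noncomputable def liveP (u : ℕ) : Bool := Bool.rec (motive := fun _ => Bool) (Nat.ble A (MG u)) false (Nat.ble M u)
end H34.TCO8A
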